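import Mathlib

/-!
Explicit data for `PSU₃(5)`: a Sylow 5-subgroup with a torus element, and generators of a subgroup `A₇`.
The data were found by an external search; every property used is checked in the kernel.
-/

set_option autoImplicit false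
set_option linter.all false

namespace Cfsg.Agent.MinIndexU35

abbrev Q5 := QuadraticAlgebra (ZMod 5) 2 0

instance fintypeQ5 : Fintype Q5 := Fintype.ofEquiv _ (QuadraticAlgebra.equivProd _ _).symm

abbrev M3 := Matrix (Fin 3) (Fin 3) Q5

def mU : M3 :=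
  !![⟨1, 0⟩, ⟨2, 0⟩, ⟨4, 0⟩; ⟨3, 0⟩, ⟨4, 0⟩, ⟨1, 0⟩; ⟨1, 0⟩, ⟨1, 0⟩, ⟨3, 0⟩]

def mV : M3 :=
  !![⟨1, 0⟩, ⟨4, 1⟩, ⟨3, 2⟩; ⟨1, 1⟩, ⟨4, 3⟩, ⟨1, 1⟩; ⟨2, 2⟩, ⟨1, 1⟩, ⟨3, 2⟩]

def mT : M3 :=
  !![⟨4, 0⟩, ⟨0, 1⟩, ⟨0, 2⟩; ⟨2, 0⟩, ⟨0, 0⟩, ⟨0, 2⟩; ⟨4, 0⟩, ⟨0, 4⟩, ⟨0, 2⟩]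

def mX : M3 :=
  !![⟨4, 0⟩, ⟨4, 1⟩, ⟨4, 0⟩; ⟨1, 0⟩, ⟨3, 2⟩, ⟨2, 0⟩; ⟨1, 1⟩, ⟨1, 0⟩, ⟨3, 3⟩]

def mY : M3 :=
  !![⟨2, 1⟩, ⟨3, 1⟩, ⟨3, 4⟩; ⟨3, 2⟩, ⟨4, 0⟩, ⟨1, 4⟩; ⟨4, 3⟩, ⟨0, 1⟩, ⟨0, 0⟩]

def mW : M3 :=
  !![⟨0, 3⟩, ⟨3, 1⟩, ⟨0, 3⟩; ⟨4, 3⟩, ⟨2, 4⟩, ⟨1, 0⟩; ⟨4, 0⟩, ⟨3, 1⟩, ⟨1, 2⟩]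

def eQ : Fin 125 → M3 :=
  ![!![⟨1, 0⟩, ⟨0, 0⟩, ⟨0, 0⟩; ⟨0, 0⟩, ⟨1, 0⟩, ⟨0, 0⟩; ⟨0, 0⟩, ⟨0, 0⟩, ⟨1, 0⟩],
    !![⟨1, 0⟩, ⟨0, 0⟩, ⟨0, 0⟩; ⟨0, 0⟩, ⟨1, 1⟩, ⟨0, 2⟩; ⟨0, 0⟩, ⟨0, 2⟩, ⟨1, 4⟩],
    !![⟨1, 0⟩, ⟨0, 0⟩, ⟨0, 0⟩; ⟨0, 0⟩, ⟨1, 2⟩, ⟨0, 4⟩; ⟨0, 0⟩, ⟨0, 4⟩, ⟨1, 3⟩],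
    !![⟨1, 0⟩, ⟨0, 0⟩, ⟨0, 0⟩; ⟨0, 0⟩, ⟨1, 3⟩, ⟨0, 1⟩; ⟨0, 0⟩, ⟨0, 1⟩, ⟨1, 2⟩],
    !![⟨1, 0⟩, ⟨0, 0⟩, ⟨0, 0⟩; ⟨0, 0⟩, ⟨1, 4⟩, ⟨0, 3⟩; ⟨0, 0⟩, ⟨0, 3⟩, ⟨1, 1⟩],
    !![⟨1, 0⟩, ⟨2, 0⟩, ⟨4, 0⟩; ⟨3, 0⟩, ⟨4, 0⟩, ⟨1, 0⟩; ⟨1, 0⟩, ⟨1, 0⟩, ⟨3, 0⟩],
    !![⟨1, 0⟩, ⟨2, 0⟩, ⟨4, 0⟩; ⟨3, 0⟩, ⟨4, 1⟩, ⟨1, 2⟩; ⟨1, 0⟩, ⟨1, 2⟩, ⟨3, 4⟩],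
    !![⟨1, 0⟩, ⟨2, 0⟩, ⟨4, 0⟩; ⟨3, 0⟩, ⟨4, 2⟩, ⟨1, 4⟩; ⟨1, 0⟩, ⟨1, 4⟩, ⟨3, 3⟩],
    !![⟨1, 0⟩, ⟨2, 0⟩, ⟨4, 0⟩; ⟨3, 0⟩, ⟨4, 3⟩, ⟨1, 1⟩; ⟨1, 0⟩, ⟨1, 1⟩, ⟨3, 2⟩],
    !![⟨1, 0⟩, ⟨2, 0⟩, ⟨4, 0⟩; ⟨3, 0⟩, ⟨4, 4⟩, ⟨1, 3⟩; ⟨1, 0⟩, ⟨1, 3⟩, ⟨3, 1⟩],
    !![⟨1, 0⟩, ⟨4, 0⟩, ⟨3, 0⟩; ⟨1, 0⟩, ⟨3, 0⟩, ⟨4, 0⟩; ⟨2, 0⟩, ⟨4, 0⟩, ⟨4, 0⟩],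
    !![⟨1, 0⟩, ⟨4, 0⟩, ⟨3, 0⟩; ⟨1, 0⟩, ⟨3, 1⟩, ⟨4, 2⟩; ⟨2, 0⟩, ⟨4, 2⟩, ⟨4, 4⟩],
    !![⟨1, 0⟩, ⟨4, 0⟩, ⟨3, 0⟩; ⟨1, 0⟩, ⟨3, 2⟩, ⟨4, 4⟩; ⟨2, 0⟩, ⟨4, 4⟩, ⟨4, 3⟩],
    !![⟨1, 0⟩, ⟨4, 0⟩, ⟨3, 0⟩; ⟨1, 0⟩, ⟨3, 3⟩, ⟨4, 1⟩; ⟨2, 0⟩, ⟨4, 1⟩, ⟨4, 2⟩],
    !![⟨1, 0⟩, ⟨4, 0⟩, ⟨3, 0⟩; ⟨1, 0⟩, ⟨3, 4⟩, ⟨4, 3⟩; ⟨2, 0⟩, ⟨4, 3⟩, ⟨4, 1⟩],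
    !![⟨1, 0⟩, ⟨1, 0⟩, ⟨2, 0⟩; ⟨4, 0⟩, ⟨3, 0⟩, ⟨4, 0⟩; ⟨3, 0⟩, ⟨4, 0⟩, ⟨4, 0⟩],
    !![⟨1, 0⟩, ⟨1, 0⟩, ⟨2, 0⟩; ⟨4, 0⟩, ⟨3, 1⟩, ⟨4, 2⟩; ⟨3, 0⟩, ⟨4, 2⟩, ⟨4, 4⟩],
    !![⟨1, 0⟩, ⟨1, 0⟩, ⟨2, 0⟩; ⟨4, 0⟩, ⟨3, 2⟩, ⟨4, 4⟩; ⟨3, 0⟩, ⟨4, 4⟩, ⟨4, 3⟩],
    !![⟨1, 0⟩, ⟨1, 0⟩, ⟨2, 0⟩; ⟨4, 0⟩, ⟨3, 3⟩, ⟨4, 1⟩; ⟨3, 0⟩, ⟨4, 1⟩, ⟨4, 2⟩],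
    !![⟨1, 0⟩, ⟨1, 0⟩, ⟨2, 0⟩; ⟨4, 0⟩, ⟨3, 4⟩, ⟨4, 3⟩; ⟨3, 0⟩, ⟨4, 3⟩, ⟨4, 1⟩],
    !![⟨1, 0⟩, ⟨3, 0⟩, ⟨1, 0⟩; ⟨2, 0⟩, ⟨4, 0⟩, ⟨1, 0⟩; ⟨4, 0⟩, ⟨1, 0⟩, ⟨3, 0⟩],
    !![⟨1, 0⟩, ⟨3, 0⟩, ⟨1, 0⟩; ⟨2, 0⟩, ⟨4, 1⟩, ⟨1, 2⟩; ⟨4, 0⟩, ⟨1, 2⟩, ⟨3, 4⟩],
    !![⟨1, 0⟩, ⟨3, 0⟩, ⟨1, 0⟩; ⟨2, 0⟩, ⟨4, 2⟩, ⟨1, 4⟩; ⟨4, 0⟩, ⟨1, 4⟩, ⟨3, 3⟩],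
    !![⟨1, 0⟩, ⟨3, 0⟩, ⟨1, 0⟩; ⟨2, 0⟩, ⟨4, 3⟩, ⟨1, 1⟩; ⟨4, 0⟩, ⟨1, 1⟩, ⟨3, 2⟩],
    !![⟨1, 0⟩, ⟨3, 0⟩, ⟨1, 0⟩; ⟨2, 0⟩, ⟨4, 4⟩, ⟨1, 3⟩; ⟨4, 0⟩, ⟨1, 3⟩, ⟨3, 1⟩],
    !![⟨1, 0⟩, ⟨4, 1⟩, ⟨3, 2⟩; ⟨1, 1⟩, ⟨4, 3⟩, ⟨1, 1⟩; ⟨2, 2⟩, ⟨1, 1⟩, ⟨3, 2⟩],
    !![⟨1, 0⟩, ⟨4, 1⟩, ⟨3, 2⟩; ⟨1, 1⟩, ⟨4, 4⟩, ⟨1, 3⟩; ⟨2, 2⟩, ⟨1, 3⟩, ⟨3, 1⟩],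
    !![⟨1, 0⟩, ⟨4, 1⟩, ⟨3, 2⟩; ⟨1, 1⟩, ⟨4, 0⟩, ⟨1, 0⟩; ⟨2, 2⟩, ⟨1, 0⟩, ⟨3, 0⟩],
    !![⟨1, 0⟩, ⟨4, 1⟩, ⟨3, 2⟩; ⟨1, 1⟩, ⟨4, 1⟩, ⟨1, 2⟩; ⟨2, 2⟩, ⟨1, 2⟩, ⟨3, 4⟩],
    !![⟨1, 0⟩, ⟨4, 1⟩, ⟨3, 2⟩; ⟨1, 1⟩, ⟨4, 2⟩, ⟨1, 4⟩; ⟨2, 2⟩, ⟨1, 4⟩, ⟨3, 3⟩],
    !![⟨1, 0⟩, ⟨1, 1⟩, ⟨2, 2⟩; ⟨4, 1⟩, ⟨4, 1⟩, ⟨1, 2⟩; ⟨3, 2⟩, ⟨1, 2⟩, ⟨3, 4⟩],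
    !![⟨1, 0⟩, ⟨1, 1⟩, ⟨2, 2⟩; ⟨4, 1⟩, ⟨4, 2⟩, ⟨1, 4⟩; ⟨3, 2⟩, ⟨1, 4⟩, ⟨3, 3⟩],
    !![⟨1, 0⟩, ⟨1, 1⟩, ⟨2, 2⟩; ⟨4, 1⟩, ⟨4, 3⟩, ⟨1, 1⟩; ⟨3, 2⟩, ⟨1, 1⟩, ⟨3, 2⟩],
    !![⟨1, 0⟩, ⟨1, 1⟩, ⟨2, 2⟩; ⟨4, 1⟩, ⟨4, 4⟩, ⟨1, 3⟩; ⟨3, 2⟩, ⟨1, 3⟩, ⟨3, 1⟩],
    !![⟨1, 0⟩, ⟨1, 1⟩, ⟨2, 2⟩; ⟨4, 1⟩, ⟨4, 0⟩, ⟨1, 0⟩; ⟨3, 2⟩, ⟨1, 0⟩, ⟨3, 0⟩],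
    !![⟨1, 0⟩, ⟨3, 1⟩, ⟨1, 2⟩; ⟨2, 1⟩, ⟨0, 4⟩, ⟨3, 3⟩; ⟨4, 2⟩, ⟨3, 3⟩, ⟨2, 1⟩],
    !![⟨1, 0⟩, ⟨3, 1⟩, ⟨1, 2⟩; ⟨2, 1⟩, ⟨0, 0⟩, ⟨3, 0⟩; ⟨4, 2⟩, ⟨3, 0⟩, ⟨2, 0⟩],
    !![⟨1, 0⟩, ⟨3, 1⟩, ⟨1, 2⟩; ⟨2, 1⟩, ⟨0, 1⟩, ⟨3, 2⟩; ⟨4, 2⟩, ⟨3, 2⟩, ⟨2, 4⟩],
    !![⟨1, 0⟩, ⟨3, 1⟩, ⟨1, 2⟩; ⟨2, 1⟩, ⟨0, 2⟩, ⟨3, 4⟩; ⟨4, 2⟩, ⟨3, 4⟩, ⟨2, 3⟩],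
    !![⟨1, 0⟩, ⟨3, 1⟩, ⟨1, 2⟩; ⟨2, 1⟩, ⟨0, 3⟩, ⟨3, 1⟩; ⟨4, 2⟩, ⟨3, 1⟩, ⟨2, 2⟩],
    !![⟨1, 0⟩, ⟨0, 1⟩, ⟨0, 2⟩; ⟨0, 1⟩, ⟨2, 2⟩, ⟨2, 4⟩; ⟨0, 2⟩, ⟨2, 4⟩, ⟨0, 3⟩],
    !![⟨1, 0⟩, ⟨0, 1⟩, ⟨0, 2⟩; ⟨0, 1⟩, ⟨2, 3⟩, ⟨2, 1⟩; ⟨0, 2⟩, ⟨2, 1⟩, ⟨0, 2⟩],
    !![⟨1, 0⟩, ⟨0, 1⟩, ⟨0, 2⟩; ⟨0, 1⟩, ⟨2, 4⟩, ⟨2, 3⟩; ⟨0, 2⟩, ⟨2, 3⟩, ⟨0, 1⟩],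
    !![⟨1, 0⟩, ⟨0, 1⟩, ⟨0, 2⟩; ⟨0, 1⟩, ⟨2, 0⟩, ⟨2, 0⟩; ⟨0, 2⟩, ⟨2, 0⟩, ⟨0, 0⟩],
    !![⟨1, 0⟩, ⟨0, 1⟩, ⟨0, 2⟩; ⟨0, 1⟩, ⟨2, 1⟩, ⟨2, 2⟩; ⟨0, 2⟩, ⟨2, 2⟩, ⟨0, 4⟩],
    !![⟨1, 0⟩, ⟨2, 1⟩, ⟨4, 2⟩; ⟨3, 1⟩, ⟨0, 0⟩, ⟨3, 0⟩; ⟨1, 2⟩, ⟨3, 0⟩, ⟨2, 0⟩],
    !![⟨1, 0⟩, ⟨2, 1⟩, ⟨4, 2⟩; ⟨3, 1⟩, ⟨0, 1⟩, ⟨3, 2⟩; ⟨1, 2⟩, ⟨3, 2⟩, ⟨2, 4⟩],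
    !![⟨1, 0⟩, ⟨2, 1⟩, ⟨4, 2⟩; ⟨3, 1⟩, ⟨0, 2⟩, ⟨3, 4⟩; ⟨1, 2⟩, ⟨3, 4⟩, ⟨2, 3⟩],
    !![⟨1, 0⟩, ⟨2, 1⟩, ⟨4, 2⟩; ⟨3, 1⟩, ⟨0, 3⟩, ⟨3, 1⟩; ⟨1, 2⟩, ⟨3, 1⟩, ⟨2, 2⟩],
    !![⟨1, 0⟩, ⟨2, 1⟩, ⟨4, 2⟩; ⟨3, 1⟩, ⟨0, 4⟩, ⟨3, 3⟩; ⟨1, 2⟩, ⟨3, 3⟩, ⟨2, 1⟩],
    !![⟨1, 0⟩, ⟨3, 2⟩, ⟨1, 4⟩; ⟨2, 2⟩, ⟨3, 1⟩, ⟨4, 2⟩; ⟨4, 4⟩, ⟨4, 2⟩, ⟨4, 4⟩],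
    !![⟨1, 0⟩, ⟨3, 2⟩, ⟨1, 4⟩; ⟨2, 2⟩, ⟨3, 2⟩, ⟨4, 4⟩; ⟨4, 4⟩, ⟨4, 4⟩, ⟨4, 3⟩],
    !![⟨1, 0⟩, ⟨3, 2⟩, ⟨1, 4⟩; ⟨2, 2⟩, ⟨3, 3⟩, ⟨4, 1⟩; ⟨4, 4⟩, ⟨4, 1⟩, ⟨4, 2⟩],
    !![⟨1, 0⟩, ⟨3, 2⟩, ⟨1, 4⟩; ⟨2, 2⟩, ⟨3, 4⟩, ⟨4, 3⟩; ⟨4, 4⟩, ⟨4, 3⟩, ⟨4, 1⟩],
    !![⟨1, 0⟩, ⟨3, 2⟩, ⟨1, 4⟩; ⟨2, 2⟩, ⟨3, 0⟩, ⟨4, 0⟩; ⟨4, 4⟩, ⟨4, 0⟩, ⟨4, 0⟩],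
    !![⟨1, 0⟩, ⟨0, 2⟩, ⟨0, 4⟩; ⟨0, 2⟩, ⟨0, 2⟩, ⟨3, 4⟩; ⟨0, 4⟩, ⟨3, 4⟩, ⟨2, 3⟩],
    !![⟨1, 0⟩, ⟨0, 2⟩, ⟨0, 4⟩; ⟨0, 2⟩, ⟨0, 3⟩, ⟨3, 1⟩; ⟨0, 4⟩, ⟨3, 1⟩, ⟨2, 2⟩],
    !![⟨1, 0⟩, ⟨0, 2⟩, ⟨0, 4⟩; ⟨0, 2⟩, ⟨0, 4⟩, ⟨3, 3⟩; ⟨0, 4⟩, ⟨3, 3⟩, ⟨2, 1⟩],
    !![⟨1, 0⟩, ⟨0, 2⟩, ⟨0, 4⟩; ⟨0, 2⟩, ⟨0, 0⟩, ⟨3, 0⟩; ⟨0, 4⟩, ⟨3, 0⟩, ⟨2, 0⟩],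
    !![⟨1, 0⟩, ⟨0, 2⟩, ⟨0, 4⟩; ⟨0, 2⟩, ⟨0, 1⟩, ⟨3, 2⟩; ⟨0, 4⟩, ⟨3, 2⟩, ⟨2, 4⟩],
    !![⟨1, 0⟩, ⟨2, 2⟩, ⟨4, 4⟩; ⟨3, 2⟩, ⟨3, 3⟩, ⟨4, 1⟩; ⟨1, 4⟩, ⟨4, 1⟩, ⟨4, 2⟩],
    !![⟨1, 0⟩, ⟨2, 2⟩, ⟨4, 4⟩; ⟨3, 2⟩, ⟨3, 4⟩, ⟨4, 3⟩; ⟨1, 4⟩, ⟨4, 3⟩, ⟨4, 1⟩],
    !![⟨1, 0⟩, ⟨2, 2⟩, ⟨4, 4⟩; ⟨3, 2⟩, ⟨3, 0⟩, ⟨4, 0⟩; ⟨1, 4⟩, ⟨4, 0⟩, ⟨4, 0⟩],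
    !![⟨1, 0⟩, ⟨2, 2⟩, ⟨4, 4⟩; ⟨3, 2⟩, ⟨3, 1⟩, ⟨4, 2⟩; ⟨1, 4⟩, ⟨4, 2⟩, ⟨4, 4⟩],
    !![⟨1, 0⟩, ⟨2, 2⟩, ⟨4, 4⟩; ⟨3, 2⟩, ⟨3, 2⟩, ⟨4, 4⟩; ⟨1, 4⟩, ⟨4, 4⟩, ⟨4, 3⟩],
    !![⟨1, 0⟩, ⟨4, 2⟩, ⟨3, 4⟩; ⟨1, 2⟩, ⟨2, 4⟩, ⟨2, 3⟩; ⟨2, 4⟩, ⟨2, 3⟩, ⟨0, 1⟩],
    !![⟨1, 0⟩, ⟨4, 2⟩, ⟨3, 4⟩; ⟨1, 2⟩, ⟨2, 0⟩, ⟨2, 0⟩; ⟨2, 4⟩, ⟨2, 0⟩, ⟨0, 0⟩],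
    !![⟨1, 0⟩, ⟨4, 2⟩, ⟨3, 4⟩; ⟨1, 2⟩, ⟨2, 1⟩, ⟨2, 2⟩; ⟨2, 4⟩, ⟨2, 2⟩, ⟨0, 4⟩],
    !![⟨1, 0⟩, ⟨4, 2⟩, ⟨3, 4⟩; ⟨1, 2⟩, ⟨2, 2⟩, ⟨2, 4⟩; ⟨2, 4⟩, ⟨2, 4⟩, ⟨0, 3⟩],
    !![⟨1, 0⟩, ⟨4, 2⟩, ⟨3, 4⟩; ⟨1, 2⟩, ⟨2, 3⟩, ⟨2, 1⟩; ⟨2, 4⟩, ⟨2, 1⟩, ⟨0, 2⟩],
    !![⟨1, 0⟩, ⟨1, 2⟩, ⟨2, 4⟩; ⟨4, 2⟩, ⟨2, 0⟩, ⟨2, 0⟩; ⟨3, 4⟩, ⟨2, 0⟩, ⟨0, 0⟩],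
    !![⟨1, 0⟩, ⟨1, 2⟩, ⟨2, 4⟩; ⟨4, 2⟩, ⟨2, 1⟩, ⟨2, 2⟩; ⟨3, 4⟩, ⟨2, 2⟩, ⟨0, 4⟩],
    !![⟨1, 0⟩, ⟨1, 2⟩, ⟨2, 4⟩; ⟨4, 2⟩, ⟨2, 2⟩, ⟨2, 4⟩; ⟨3, 4⟩, ⟨2, 4⟩, ⟨0, 3⟩],
    !![⟨1, 0⟩, ⟨1, 2⟩, ⟨2, 4⟩; ⟨4, 2⟩, ⟨2, 3⟩, ⟨2, 1⟩; ⟨3, 4⟩, ⟨2, 1⟩, ⟨0, 2⟩],
    !![⟨1, 0⟩, ⟨1, 2⟩, ⟨2, 4⟩; ⟨4, 2⟩, ⟨2, 4⟩, ⟨2, 3⟩; ⟨3, 4⟩, ⟨2, 3⟩, ⟨0, 1⟩],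
    !![⟨1, 0⟩, ⟨2, 3⟩, ⟨4, 1⟩; ⟨3, 3⟩, ⟨3, 4⟩, ⟨4, 3⟩; ⟨1, 1⟩, ⟨4, 3⟩, ⟨4, 1⟩],
    !![⟨1, 0⟩, ⟨2, 3⟩, ⟨4, 1⟩; ⟨3, 3⟩, ⟨3, 0⟩, ⟨4, 0⟩; ⟨1, 1⟩, ⟨4, 0⟩, ⟨4, 0⟩],
    !![⟨1, 0⟩, ⟨2, 3⟩, ⟨4, 1⟩; ⟨3, 3⟩, ⟨3, 1⟩, ⟨4, 2⟩; ⟨1, 1⟩, ⟨4, 2⟩, ⟨4, 4⟩],
    !![⟨1, 0⟩, ⟨2, 3⟩, ⟨4, 1⟩; ⟨3, 3⟩, ⟨3, 2⟩, ⟨4, 4⟩; ⟨1, 1⟩, ⟨4, 4⟩, ⟨4, 3⟩],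
    !![⟨1, 0⟩, ⟨2, 3⟩, ⟨4, 1⟩; ⟨3, 3⟩, ⟨3, 3⟩, ⟨4, 1⟩; ⟨1, 1⟩, ⟨4, 1⟩, ⟨4, 2⟩],
    !![⟨1, 0⟩, ⟨4, 3⟩, ⟨3, 1⟩; ⟨1, 3⟩, ⟨2, 3⟩, ⟨2, 1⟩; ⟨2, 1⟩, ⟨2, 1⟩, ⟨0, 2⟩],
    !![⟨1, 0⟩, ⟨4, 3⟩, ⟨3, 1⟩; ⟨1, 3⟩, ⟨2, 4⟩, ⟨2, 3⟩; ⟨2, 1⟩, ⟨2, 3⟩, ⟨0, 1⟩],
    !![⟨1, 0⟩, ⟨4, 3⟩, ⟨3, 1⟩; ⟨1, 3⟩, ⟨2, 0⟩, ⟨2, 0⟩; ⟨2, 1⟩, ⟨2, 0⟩, ⟨0, 0⟩],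
    !![⟨1, 0⟩, ⟨4, 3⟩, ⟨3, 1⟩; ⟨1, 3⟩, ⟨2, 1⟩, ⟨2, 2⟩; ⟨2, 1⟩, ⟨2, 2⟩, ⟨0, 4⟩],
    !![⟨1, 0⟩, ⟨4, 3⟩, ⟨3, 1⟩; ⟨1, 3⟩, ⟨2, 2⟩, ⟨2, 4⟩; ⟨2, 1⟩, ⟨2, 4⟩, ⟨0, 3⟩],
    !![⟨1, 0⟩, ⟨1, 3⟩, ⟨2, 1⟩; ⟨4, 3⟩, ⟨2, 2⟩, ⟨2, 4⟩; ⟨3, 1⟩, ⟨2, 4⟩, ⟨0, 3⟩],
    !![⟨1, 0⟩, ⟨1, 3⟩, ⟨2, 1⟩; ⟨4, 3⟩, ⟨2, 3⟩, ⟨2, 1⟩; ⟨3, 1⟩, ⟨2, 1⟩, ⟨0, 2⟩],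
    !![⟨1, 0⟩, ⟨1, 3⟩, ⟨2, 1⟩; ⟨4, 3⟩, ⟨2, 4⟩, ⟨2, 3⟩; ⟨3, 1⟩, ⟨2, 3⟩, ⟨0, 1⟩],
    !![⟨1, 0⟩, ⟨1, 3⟩, ⟨2, 1⟩; ⟨4, 3⟩, ⟨2, 0⟩, ⟨2, 0⟩; ⟨3, 1⟩, ⟨2, 0⟩, ⟨0, 0⟩],
    !![⟨1, 0⟩, ⟨1, 3⟩, ⟨2, 1⟩; ⟨4, 3⟩, ⟨2, 1⟩, ⟨2, 2⟩; ⟨3, 1⟩, ⟨2, 2⟩, ⟨0, 4⟩],
    !![⟨1, 0⟩, ⟨3, 3⟩, ⟨1, 1⟩; ⟨2, 3⟩, ⟨3, 1⟩, ⟨4, 2⟩; ⟨4, 1⟩, ⟨4, 2⟩, ⟨4, 4⟩],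
    !![⟨1, 0⟩, ⟨3, 3⟩, ⟨1, 1⟩; ⟨2, 3⟩, ⟨3, 2⟩, ⟨4, 4⟩; ⟨4, 1⟩, ⟨4, 4⟩, ⟨4, 3⟩],
    !![⟨1, 0⟩, ⟨3, 3⟩, ⟨1, 1⟩; ⟨2, 3⟩, ⟨3, 3⟩, ⟨4, 1⟩; ⟨4, 1⟩, ⟨4, 1⟩, ⟨4, 2⟩],
    !![⟨1, 0⟩, ⟨3, 3⟩, ⟨1, 1⟩; ⟨2, 3⟩, ⟨3, 4⟩, ⟨4, 3⟩; ⟨4, 1⟩, ⟨4, 3⟩, ⟨4, 1⟩],
    !![⟨1, 0⟩, ⟨3, 3⟩, ⟨1, 1⟩; ⟨2, 3⟩, ⟨3, 0⟩, ⟨4, 0⟩; ⟨4, 1⟩, ⟨4, 0⟩, ⟨4, 0⟩],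
    !![⟨1, 0⟩, ⟨0, 3⟩, ⟨0, 1⟩; ⟨0, 3⟩, ⟨0, 0⟩, ⟨3, 0⟩; ⟨0, 1⟩, ⟨3, 0⟩, ⟨2, 0⟩],
    !![⟨1, 0⟩, ⟨0, 3⟩, ⟨0, 1⟩; ⟨0, 3⟩, ⟨0, 1⟩, ⟨3, 2⟩; ⟨0, 1⟩, ⟨3, 2⟩, ⟨2, 4⟩],
    !![⟨1, 0⟩, ⟨0, 3⟩, ⟨0, 1⟩; ⟨0, 3⟩, ⟨0, 2⟩, ⟨3, 4⟩; ⟨0, 1⟩, ⟨3, 4⟩, ⟨2, 3⟩],
    !![⟨1, 0⟩, ⟨0, 3⟩, ⟨0, 1⟩; ⟨0, 3⟩, ⟨0, 3⟩, ⟨3, 1⟩; ⟨0, 1⟩, ⟨3, 1⟩, ⟨2, 2⟩],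
    !![⟨1, 0⟩, ⟨0, 3⟩, ⟨0, 1⟩; ⟨0, 3⟩, ⟨0, 4⟩, ⟨3, 3⟩; ⟨0, 1⟩, ⟨3, 3⟩, ⟨2, 1⟩],
    !![⟨1, 0⟩, ⟨1, 4⟩, ⟨2, 3⟩; ⟨4, 4⟩, ⟨4, 2⟩, ⟨1, 4⟩; ⟨3, 3⟩, ⟨1, 4⟩, ⟨3, 3⟩],
    !![⟨1, 0⟩, ⟨1, 4⟩, ⟨2, 3⟩; ⟨4, 4⟩, ⟨4, 3⟩, ⟨1, 1⟩; ⟨3, 3⟩, ⟨1, 1⟩, ⟨3, 2⟩],
    !![⟨1, 0⟩, ⟨1, 4⟩, ⟨2, 3⟩; ⟨4, 4⟩, ⟨4, 4⟩, ⟨1, 3⟩; ⟨3, 3⟩, ⟨1, 3⟩, ⟨3, 1⟩],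
    !![⟨1, 0⟩, ⟨1, 4⟩, ⟨2, 3⟩; ⟨4, 4⟩, ⟨4, 0⟩, ⟨1, 0⟩; ⟨3, 3⟩, ⟨1, 0⟩, ⟨3, 0⟩],
    !![⟨1, 0⟩, ⟨1, 4⟩, ⟨2, 3⟩; ⟨4, 4⟩, ⟨4, 1⟩, ⟨1, 2⟩; ⟨3, 3⟩, ⟨1, 2⟩, ⟨3, 4⟩],
    !![⟨1, 0⟩, ⟨3, 4⟩, ⟨1, 3⟩; ⟨2, 4⟩, ⟨0, 4⟩, ⟨3, 3⟩; ⟨4, 3⟩, ⟨3, 3⟩, ⟨2, 1⟩],
    !![⟨1, 0⟩, ⟨3, 4⟩, ⟨1, 3⟩; ⟨2, 4⟩, ⟨0, 0⟩, ⟨3, 0⟩; ⟨4, 3⟩, ⟨3, 0⟩, ⟨2, 0⟩],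
    !![⟨1, 0⟩, ⟨3, 4⟩, ⟨1, 3⟩; ⟨2, 4⟩, ⟨0, 1⟩, ⟨3, 2⟩; ⟨4, 3⟩, ⟨3, 2⟩, ⟨2, 4⟩],
    !![⟨1, 0⟩, ⟨3, 4⟩, ⟨1, 3⟩; ⟨2, 4⟩, ⟨0, 2⟩, ⟨3, 4⟩; ⟨4, 3⟩, ⟨3, 4⟩, ⟨2, 3⟩],
    !![⟨1, 0⟩, ⟨3, 4⟩, ⟨1, 3⟩; ⟨2, 4⟩, ⟨0, 3⟩, ⟨3, 1⟩; ⟨4, 3⟩, ⟨3, 1⟩, ⟨2, 2⟩],
    !![⟨1, 0⟩, ⟨0, 4⟩, ⟨0, 3⟩; ⟨0, 4⟩, ⟨2, 1⟩, ⟨2, 2⟩; ⟨0, 3⟩, ⟨2, 2⟩, ⟨0, 4⟩],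
    !![⟨1, 0⟩, ⟨0, 4⟩, ⟨0, 3⟩; ⟨0, 4⟩, ⟨2, 2⟩, ⟨2, 4⟩; ⟨0, 3⟩, ⟨2, 4⟩, ⟨0, 3⟩],
    !![⟨1, 0⟩, ⟨0, 4⟩, ⟨0, 3⟩; ⟨0, 4⟩, ⟨2, 3⟩, ⟨2, 1⟩; ⟨0, 3⟩, ⟨2, 1⟩, ⟨0, 2⟩],
    !![⟨1, 0⟩, ⟨0, 4⟩, ⟨0, 3⟩; ⟨0, 4⟩, ⟨2, 4⟩, ⟨2, 3⟩; ⟨0, 3⟩, ⟨2, 3⟩, ⟨0, 1⟩],
    !![⟨1, 0⟩, ⟨0, 4⟩, ⟨0, 3⟩; ⟨0, 4⟩, ⟨2, 0⟩, ⟨2, 0⟩; ⟨0, 3⟩, ⟨2, 0⟩, ⟨0, 0⟩],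
    !![⟨1, 0⟩, ⟨2, 4⟩, ⟨4, 3⟩; ⟨3, 4⟩, ⟨0, 3⟩, ⟨3, 1⟩; ⟨1, 3⟩, ⟨3, 1⟩, ⟨2, 2⟩],
    !![⟨1, 0⟩, ⟨2, 4⟩, ⟨4, 3⟩; ⟨3, 4⟩, ⟨0, 4⟩, ⟨3, 3⟩; ⟨1, 3⟩, ⟨3, 3⟩, ⟨2, 1⟩],
    !![⟨1, 0⟩, ⟨2, 4⟩, ⟨4, 3⟩; ⟨3, 4⟩, ⟨0, 0⟩, ⟨3, 0⟩; ⟨1, 3⟩, ⟨3, 0⟩, ⟨2, 0⟩],
    !![⟨1, 0⟩, ⟨2, 4⟩, ⟨4, 3⟩; ⟨3, 4⟩, ⟨0, 1⟩, ⟨3, 2⟩; ⟨1, 3⟩, ⟨3, 2⟩, ⟨2, 4⟩],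
    !![⟨1, 0⟩, ⟨2, 4⟩, ⟨4, 3⟩; ⟨3, 4⟩, ⟨0, 2⟩, ⟨3, 4⟩; ⟨1, 3⟩, ⟨3, 4⟩, ⟨2, 3⟩],
    !![⟨1, 0⟩, ⟨4, 4⟩, ⟨3, 3⟩; ⟨1, 4⟩, ⟨4, 0⟩, ⟨1, 0⟩; ⟨2, 3⟩, ⟨1, 0⟩, ⟨3, 0⟩],
    !![⟨1, 0⟩, ⟨4, 4⟩, ⟨3, 3⟩; ⟨1, 4⟩, ⟨4, 1⟩, ⟨1, 2⟩; ⟨2, 3⟩, ⟨1, 2⟩, ⟨3, 4⟩],
    !![⟨1, 0⟩, ⟨4, 4⟩, ⟨3, 3⟩; ⟨1, 4⟩, ⟨4, 2⟩, ⟨1, 4⟩; ⟨2, 3⟩, ⟨1, 4⟩, ⟨3, 3⟩],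
    !![⟨1, 0⟩, ⟨4, 4⟩, ⟨3, 3⟩; ⟨1, 4⟩, ⟨4, 3⟩, ⟨1, 1⟩; ⟨2, 3⟩, ⟨1, 1⟩, ⟨3, 2⟩],
    !![⟨1, 0⟩, ⟨4, 4⟩, ⟨3, 3⟩; ⟨1, 4⟩, ⟨4, 4⟩, ⟨1, 3⟩; ⟨2, 3⟩, ⟨1, 3⟩, ⟨3, 1⟩]]

def tU : Fin 125 → Fin 125 :=
  ![5, 6, 7, 8, 9, 10, 11, 12, 13, 14, 15, 16, 17, 18, 19, 20, 21, 22, 23, 24, 0, 1, 2, 3, 4, 34, 30, 31, 32, 33, 39, 35, 36, 37, 38, 44, 40, 41, 42, 43, 49, 45, 46, 47, 48, 29, 25, 26, 27, 28, 58, 59, 55, 56, 57, 63, 64, 60, 61, 62, 68, 69, 65, 66, 67, 73, 74, 70, 71, 72, 53, 54, 50, 51, 52, 82,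 83, 84, 80, 81, 87, 88, 89, 85, 86, 92, 93, 94, 90, 91, 97, 98, 99, 95, 96, 77, 78, 79, 75, 76, 106, 107, 108, 109, 105, 111, 112, 113, 114, 110, 116, 117, 118, 119, 115, 121, 122, 123, 124, 120, 101, 102, 103, 104, 100]

def tV : Fin 125 → Fin 125 :=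
  ![25, 26, 27, 28, 29, 30, 31, 32, 33, 34, 35, 36, 37, 38, 39, 40, 41, 42, 43, 44, 45, 46, 47, 48, 49, 50, 51, 52, 53, 54, 55, 56, 57, 58, 59, 60, 61, 62, 63, 64, 65, 66, 67, 68, 69, 70, 71, 72, 73, 74, 75, 76, 77, 78, 79, 80, 81, 82, 83, 84, 85, 86, 87, 88, 89, 90, 91, 92, 93, 94, 95, 96, 97, 98, 99, 100, 101, 102, 103, 104, 105, 106, 107, 108, 109, 110, 111, 112, 113, 114, 115, 116, 117, 118, 119, 120, 121, 122, 123, 124, 0, 1, 2, 3, 4, 5, 6, 7, 8, 9, 10, 11, 12, 13, 14, 15, 16, 17,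 18, 19, 20, 21, 22, 23, 24]

def tT : Fin 125 → Fin 125 :=
  ![0, 3, 1, 4, 2, 98, 96, 99, 97, 95, 44, 42, 40, 43, 41, 113, 111, 114, 112, 110, 55, 58, 56, 59, 57, 36, 39, 37, 35, 38, 108, 106, 109, 107, 105, 53, 51, 54, 52, 50, 21, 24, 22, 20, 23, 92, 90, 93, 91, 94, 70, 73, 71, 74, 72, 16, 19, 17, 15, 18, 85, 88, 86, 89, 87, 32, 30, 33, 31, 34, 102, 100, 103, 101, 104, 82, 80, 83, 81, 84, 27, 25, 28, 26, 29, 120, 123, 121, 124, 122, 66, 69, 67, 65, 68, 10, 13, 11, 14, 12, 117, 115,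 118, 116, 119, 61, 64, 62, 60, 63, 8, 6, 9, 7, 5, 78, 76, 79, 77, 75, 46, 49, 47, 45, 48]

def pw0 : Fin 125 → Fin 125 :=
  ![0, 0, 0, 0, 0, 0, 0, 0, 0, 0, 0, 0, 0, 0, 0, 0, 0, 0, 0, 0, 0, 0, 0, 0, 0, 0, 0, 0, 0, 0, 0, 0, 0, 0, 0, 0, 0, 0, 0, 0, 0, 0, 0, 0, 0, 0, 0, 0, 0, 0, 0, 0, 0, 0, 0, 0, 0, 0, 0, 0, 0, 0, 0, 0, 0, 0, 0, 0, 0, 0, 0, 0, 0, 0, 0, 0, 0, 0, 0, 0, 0, 0, 0, 0, 0, 0, 0, 0, 0, 0, 0, 0, 0, 0, 0, 0, 0, 0, 0, 0, 0, 0, 0, 0, 0, 0, 0, 0, 0, 0, 0, 0, 0, 0, 0, 0, 0, 0, 0, 0, 0,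 0, 0, 0, 0]

def pw1 : Fin 125 → Fin 125 :=
  ![0, 1, 2, 3, 4, 5, 6, 7, 8, 9, 10, 11, 12, 13, 14, 15, 16, 17, 18, 19, 20, 21, 22, 23, 24, 25, 26, 27, 28, 29, 30, 31, 32, 33, 34, 35, 36, 37, 38, 39, 40, 41, 42, 43, 44, 45, 46, 47, 48, 49, 50, 51, 52, 53, 54, 55, 56, 57, 58, 59, 60, 61, 62, 63, 64, 65, 66, 67, 68, 69, 70, 71, 72, 73, 74, 75, 76, 77, 78, 79, 80, 81, 82, 83, 84, 85, 86, 87, 88, 89, 90, 91, 92, 93, 94, 95, 96, 97, 98, 99, 100, 101, 102, 103, 104, 105, 106, 107, 108, 109,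 110, 111, 112, 113, 114, 115, 116, 117, 118, 119, 120, 121, 122, 123, 124]

def pw2 : Fin 125 → Fin 125 :=
  ![0, 2, 4, 1, 3, 10, 12, 14, 11, 13, 20, 22, 24, 21, 23, 5, 7, 9, 6, 8, 15, 17, 19, 16, 18, 50, 52, 54, 51, 53, 64, 61, 63, 60, 62, 73, 70, 72, 74, 71, 57, 59, 56, 58, 55, 66, 68, 65, 67, 69, 100, 102, 104, 101, 103, 113, 110, 112, 114, 111, 121, 123, 120, 122, 124, 109, 106, 108, 105, 107, 117, 119, 116, 118, 115, 25, 27, 29, 26, 28, 37, 39, 36, 38, 35, 49, 46, 48, 45, 47, 31,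 33, 30, 32, 34, 43, 40, 42, 44, 41, 75, 77, 79, 76, 78, 86, 88, 85, 87, 89, 97, 99, 96, 98, 95, 83, 80, 82, 84, 81, 94, 91, 93, 90, 92]

def pw3 : Fin 125 → Fin 125 :=
  ![0, 3, 1, 4, 2, 15, 18, 16, 19, 17, 5, 8, 6, 9, 7, 20, 23, 21, 24, 22, 10, 13, 11, 14, 12, 75, 78, 76, 79, 77, 92, 90, 93, 91, 94, 84, 82, 80, 83, 81, 96, 99, 97, 95, 98, 88, 86, 89, 87, 85, 25, 28, 26, 29, 27, 44, 42, 40, 43, 41, 33, 31, 34, 32, 30, 47, 45, 48, 46, 49, 36, 39, 37, 35, 38, 100, 103, 101, 104, 102, 116,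 119, 117, 115, 118, 107, 105, 108, 106, 109, 123, 121, 124, 122, 120, 114, 112, 110, 113, 111, 50, 53, 51, 54, 52, 68, 66, 69, 67, 65, 56, 59, 57, 55, 58, 74, 72, 70, 73, 71, 62, 60, 63, 61, 64]

def pw4 : Fin 125 → Fin 125 :=
  ![0, 4, 3, 2, 1, 20, 24, 23, 22, 21, 15, 19, 18, 17, 16, 10, 14, 13, 12, 11, 5, 9, 8, 7, 6, 100, 104, 103, 102, 101, 124, 123, 122, 121, 120, 118, 117, 116, 115, 119, 112, 111, 110, 114, 113, 106, 105, 109, 108, 107, 75, 79, 78, 77, 76, 98, 97, 96, 95, 99, 91,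 90, 94, 93, 92, 89, 88, 87, 86, 85, 82, 81, 80, 84, 83, 50, 54, 53, 52, 51, 72, 71, 70, 74, 73, 69, 68, 67, 66, 65, 61, 60, 64, 63, 62, 58, 57, 56, 55, 59, 25, 29, 28, 27, 26, 46, 45, 49, 48, 47, 42, 41, 40, 44, 43, 38, 37, 36, 35, 39, 34, 33, 32, 31, 30]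

def sPt : Fin 105 → Fin 3 → Q5 :=
  ![![⟨0, 0⟩, ⟨1, 0⟩, ⟨1, 0⟩],
    ![⟨1, 0⟩, ⟨3, 3⟩, ⟨3, 0⟩],
    ![⟨1, 0⟩, ⟨0, 4⟩, ⟨0, 1⟩],
    ![⟨1, 0⟩, ⟨2, 0⟩, ⟨2, 2⟩],
    ![⟨1, 0⟩, ⟨3, 1⟩, ⟨0, 1⟩],
    ![⟨1, 0⟩, ⟨1, 2⟩, ⟨1, 4⟩],
    ![⟨1, 0⟩, ⟨0, 3⟩, ⟨0, 1⟩],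
    ![⟨1, 0⟩, ⟨1, 1⟩, ⟨0, 1⟩],
    ![⟨1, 0⟩, ⟨0, 2⟩, ⟨0, 0⟩],
    ![⟨1, 0⟩, ⟨3, 2⟩, ⟨1, 1⟩],
    ![⟨1, 0⟩, ⟨4, 1⟩, ⟨4, 3⟩],
    ![⟨1, 0⟩, ⟨4, 3⟩, ⟨0, 1⟩],
    ![⟨1, 0⟩, ⟨1, 4⟩, ⟨2, 1⟩],
    ![⟨1, 0⟩, ⟨2, 4⟩, ⟨4, 1⟩],
    ![⟨1, 0⟩, ⟨4, 0⟩, ⟨3, 1⟩],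
    ![⟨1, 0⟩, ⟨1, 3⟩, ⟨2, 4⟩],
    ![⟨1, 0⟩, ⟨0, 1⟩, ⟨2, 1⟩],
    ![⟨1, 0⟩, ⟨3, 4⟩, ⟨3, 0⟩],
    ![⟨1, 0⟩, ⟨4, 4⟩, ⟨0, 1⟩],
    ![⟨1, 0⟩, ⟨0, 4⟩, ⟨1, 2⟩],
    ![⟨1, 0⟩, ⟨1, 1⟩, ⟨2, 1⟩],
    ![⟨1, 0⟩, ⟨1, 0⟩, ⟨2, 3⟩],
    ![⟨1, 0⟩, ⟨1, 1⟩, ⟨1, 2⟩],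
    ![⟨1, 0⟩, ⟨3, 2⟩, ⟨2, 1⟩],
    ![⟨1, 0⟩, ⟨2, 2⟩, ⟨3, 3⟩],
    ![⟨1, 0⟩, ⟨3, 3⟩, ⟨2, 1⟩],
    ![⟨1, 0⟩, ⟨0, 0⟩, ⟨4, 2⟩],
    ![⟨1, 0⟩, ⟨4, 4⟩, ⟨4, 3⟩],
    ![⟨1, 0⟩, ⟨3, 2⟩, ⟨3, 4⟩],
    ![⟨1, 0⟩, ⟨2, 1⟩, ⟨2, 0⟩],
    ![⟨1, 0⟩, ⟨1, 0⟩, ⟨2, 1⟩],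
    ![⟨1, 0⟩, ⟨2, 0⟩, ⟨4, 3⟩],
    ![⟨1, 0⟩, ⟨4, 1⟩, ⟨0, 2⟩],
    ![⟨1, 0⟩, ⟨3, 0⟩, ⟨2, 0⟩],
    ![⟨0, 0⟩, ⟨1, 0⟩, ⟨4, 3⟩],
    ![⟨1, 0⟩, ⟨4, 0⟩, ⟨1, 0⟩],
    ![⟨1, 0⟩, ⟨2, 2⟩, ⟨0, 2⟩],
    ![⟨1, 0⟩, ⟨0, 4⟩, ⟨2, 1⟩],
    ![⟨1, 0⟩, ⟨3, 2⟩, ⟨2, 2⟩],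
    ![⟨1, 0⟩, ⟨2, 1⟩, ⟨1, 3⟩],
    ![⟨1, 0⟩, ⟨2, 2⟩, ⟨4, 1⟩],
    ![⟨1, 0⟩, ⟨4, 2⟩, ⟨1, 4⟩],
    ![⟨1, 0⟩, ⟨4, 3⟩, ⟨2, 4⟩],
    ![⟨1, 0⟩, ⟨3, 4⟩, ⟨0, 4⟩],
    ![⟨1, 0⟩, ⟨4, 1⟩, ⟨1, 3⟩],
    ![⟨1, 0⟩, ⟨4, 2⟩, ⟨3, 4⟩],
    ![⟨1, 0⟩, ⟨0, 3⟩, ⟨1, 4⟩],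
    ![⟨1, 0⟩, ⟨3, 0⟩, ⟨2, 3⟩],
    ![⟨1, 0⟩, ⟨3, 2⟩, ⟨3, 2⟩],
    ![⟨1, 0⟩, ⟨3, 4⟩, ⟨0, 1⟩],
    ![⟨1, 0⟩, ⟨4, 3⟩, ⟨4, 4⟩],
    ![⟨1, 0⟩, ⟨3, 4⟩, ⟨4, 0⟩],
    ![⟨1, 0⟩, ⟨2, 4⟩, ⟨4, 2⟩],
    ![⟨1, 0⟩, ⟨0, 4⟩, ⟨1, 1⟩],
    ![⟨1, 0⟩, ⟨4, 1⟩, ⟨4, 4⟩],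
    ![⟨1, 0⟩, ⟨1, 1⟩, ⟨1, 4⟩],
    ![⟨1, 0⟩, ⟨2, 3⟩, ⟨2, 3⟩],
    ![⟨1, 0⟩, ⟨4, 4⟩, ⟨1, 0⟩],
    ![⟨1, 0⟩, ⟨4, 4⟩, ⟨1, 1⟩],
    ![⟨1, 0⟩, ⟨1, 0⟩, ⟨3, 0⟩],
    ![⟨1, 0⟩, ⟨0, 1⟩, ⟨4, 1⟩],
    ![⟨1, 0⟩, ⟨4, 0⟩, ⟨1, 1⟩],
    ![⟨1, 0⟩, ⟨3, 3⟩, ⟨2, 3⟩],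
    ![⟨1, 0⟩, ⟨4, 4⟩, ⟨2, 3⟩],
    ![⟨1, 0⟩, ⟨0, 2⟩, ⟨2, 0⟩],
    ![⟨1, 0⟩, ⟨0, 2⟩, ⟨3, 0⟩],
    ![⟨1, 0⟩, ⟨1, 4⟩, ⟨2, 3⟩],
    ![⟨1, 0⟩, ⟨0, 3⟩, ⟨3, 3⟩],
    ![⟨1, 0⟩, ⟨3, 4⟩, ⟨2, 3⟩],
    ![⟨1, 0⟩, ⟨3, 4⟩, ⟨4, 4⟩],
    ![⟨1, 0⟩, ⟨2, 3⟩, ⟨3, 2⟩],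
    ![⟨1, 0⟩, ⟨1, 4⟩, ⟨0, 4⟩],
    ![⟨1, 0⟩, ⟨3, 2⟩, ⟨4, 1⟩],
    ![⟨1, 0⟩, ⟨1, 3⟩, ⟨3, 1⟩],
    ![⟨1, 0⟩, ⟨0, 4⟩, ⟨1, 3⟩],
    ![⟨1, 0⟩, ⟨2, 3⟩, ⟨0, 0⟩],
    ![⟨1, 0⟩, ⟨3, 0⟩, ⟨4, 4⟩],
    ![⟨1, 0⟩, ⟨2, 0⟩, ⟨2, 1⟩],
    ![⟨1, 0⟩, ⟨3, 0⟩, ⟨0, 3⟩],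
    ![⟨1, 0⟩, ⟨0, 1⟩, ⟨0, 4⟩],
    ![⟨1, 0⟩, ⟨2, 0⟩, ⟨0, 3⟩],
    ![⟨1, 0⟩, ⟨2, 4⟩, ⟨1, 0⟩],
    ![⟨1, 0⟩, ⟨0, 0⟩, ⟨3, 2⟩],
    ![⟨1, 0⟩, ⟨1, 2⟩, ⟨1, 1⟩],
    ![⟨1, 0⟩, ⟨3, 4⟩, ⟨2, 2⟩],
    ![⟨1, 0⟩, ⟨3, 0⟩, ⟨3, 4⟩],
    ![⟨1, 0⟩, ⟨0, 4⟩, ⟨4, 4⟩],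
    ![⟨1, 0⟩, ⟨2, 0⟩, ⟨4, 0⟩],
    ![⟨1, 0⟩, ⟨4, 1⟩, ⟨1, 4⟩],
    ![⟨1, 0⟩, ⟨3, 2⟩, ⟨4, 0⟩],
    ![⟨1, 0⟩, ⟨4, 2⟩, ⟨0, 1⟩],
    ![⟨1, 0⟩, ⟨3, 1⟩, ⟨1, 2⟩],
    ![⟨1, 0⟩, ⟨1, 4⟩, ⟨3, 1⟩],
    ![⟨0, 0⟩, ⟨1, 0⟩, ⟨3, 4⟩],
    ![⟨1, 0⟩, ⟨1, 4⟩, ⟨3, 3⟩],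
    ![⟨1, 0⟩, ⟨3, 4⟩, ⟨4, 1⟩],
    ![⟨1, 0⟩, ⟨3, 1⟩, ⟨4, 2⟩],
    ![⟨1, 0⟩, ⟨1, 3⟩, ⟨0, 0⟩],
    ![⟨1, 0⟩, ⟨0, 4⟩, ⟨2, 4⟩],
    ![⟨1, 0⟩, ⟨0, 0⟩, ⟨0, 3⟩],
    ![⟨1, 0⟩, ⟨1, 1⟩, ⟨2, 0⟩],
    ![⟨1, 0⟩, ⟨3, 2⟩, ⟨2, 0⟩],
    ![⟨1, 0⟩, ⟨0, 4⟩, ⟨0, 2⟩],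
    ![⟨1, 0⟩, ⟨1, 2⟩, ⟨3, 0⟩],
    ![⟨1, 0⟩, ⟨2, 1⟩, ⟨2, 3⟩]]

def sX : Fin 105 → Fin 105 :=
  ![1, 3, 5, 0, 8, 10, 12, 4, 7, 16, 2, 19, 21, 23, 25, 27, 29, 31, 33, 35, 37, 6, 40, 42, 44, 38, 17, 47, 28, 9, 51, 26, 52, 53, 20, 11, 56, 34, 14, 59, 60, 24, 13, 63, 41, 65, 55, 15, 67, 69, 71, 70, 54, 18, 32, 73, 74, 76, 78, 80, 22, 82, 84, 85, 58, 87, 88, 90, 92, 93, 30, 94, 66, 46, 36, 57, 75, 97, 64, 79, 39, 62, 100, 96, 81, 43, 99, 45, 72, 95, 48, 68, 91, 49, 50, 102, 101, 103, 86, 98,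 61, 83, 89, 77, 104]

def sXc : Fin 105 → Q5 :=
  ![⟨3, 1⟩, ⟨4, 0⟩, ⟨2, 0⟩, ⟨1, 3⟩, ⟨3, 1⟩, ⟨1, 0⟩, ⟨0, 1⟩, ⟨0, 4⟩, ⟨3, 3⟩, ⟨4, 0⟩, ⟨3, 0⟩, ⟨1, 0⟩, ⟨4, 1⟩, ⟨1, 2⟩, ⟨2, 3⟩, ⟨2, 4⟩, ⟨4, 3⟩, ⟨1, 4⟩, ⟨3, 4⟩, ⟨1, 4⟩, ⟨3, 4⟩, ⟨1, 3⟩, ⟨4, 3⟩, ⟨3, 0⟩, ⟨3, 2⟩, ⟨0, 4⟩, ⟨0, 3⟩, ⟨4, 2⟩, ⟨2, 2⟩, ⟨2, 1⟩, ⟨1, 0⟩, ⟨3, 4⟩, ⟨2, 1⟩, ⟨4, 3⟩, ⟨0, 3⟩, ⟨4, 4⟩, ⟨1, 3⟩, ⟨1, 4⟩, ⟨3, 4⟩, ⟨3, 3⟩, ⟨2, 4⟩, ⟨3, 3⟩, ⟨4, 2⟩, ⟨4, 0⟩, ⟨1, 0⟩, ⟨1, 3⟩, ⟨4, 3⟩, ⟨4, 0⟩, ⟨2, 4⟩, ⟨4, 3⟩, ⟨2, 2⟩, ⟨0, 4⟩, ⟨1, 1⟩, ⟨1, 0⟩, ⟨3,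 4⟩, ⟨4, 1⟩, ⟨1, 1⟩, ⟨2, 0⟩, ⟨2, 4⟩, ⟨0, 1⟩, ⟨2, 3⟩, ⟨4, 3⟩, ⟨0, 2⟩, ⟨1, 2⟩, ⟨1, 3⟩, ⟨0, 3⟩, ⟨4, 4⟩, ⟨2, 4⟩, ⟨2, 1⟩, ⟨4, 1⟩, ⟨0, 2⟩, ⟨1, 3⟩, ⟨1, 0⟩, ⟨1, 2⟩, ⟨1, 3⟩, ⟨3, 4⟩, ⟨2, 4⟩, ⟨0, 1⟩, ⟨1, 0⟩, ⟨1, 0⟩, ⟨2, 4⟩, ⟨4, 3⟩, ⟨1, 3⟩, ⟨1, 3⟩, ⟨2, 2⟩, ⟨3, 4⟩, ⟨3, 2⟩, ⟨3, 2⟩, ⟨1, 4⟩, ⟨1, 1⟩, ⟨4, 1⟩, ⟨2, 0⟩, ⟨3, 1⟩, ⟨1, 2⟩, ⟨3, 4⟩, ⟨0, 3⟩, ⟨4, 0⟩, ⟨4, 3⟩, ⟨0, 2⟩, ⟨4, 2⟩, ⟨3, 0⟩, ⟨3, 1⟩, ⟨2, 4⟩, ⟨4, 4⟩, ⟨2, 3⟩]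

def sY : Fin 105 → Fin 105 :=
  ![2, 4, 6, 7, 9, 11, 13, 14, 15, 17, 18, 20, 22, 24, 26, 28, 30, 32, 34, 36, 38, 39, 41, 43, 0, 45, 46, 48, 49, 50, 10, 37, 1, 54, 16, 55, 57, 58, 51, 44, 61, 35, 62, 64, 33, 66, 3, 67, 68, 70, 72, 5, 19, 56, 21, 12, 75, 77, 79, 81, 63, 83, 78, 27, 86, 23, 89, 91, 60, 87, 8, 40, 95, 53, 96, 97, 92, 52, 98, 99, 82, 47, 101, 93, 25, 29, 65, 80, 102, 84, 103, 59, 88, 71, 42, 85, 104, 73, 94, 31, 76, 69, 100, 74, 90]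

def sYc : Fin 105 → Q5 :=
  ![⟨1, 0⟩, ⟨1, 0⟩, ⟨3, 1⟩, ⟨0, 2⟩, ⟨1, 0⟩, ⟨4, 4⟩, ⟨1, 3⟩, ⟨0, 3⟩, ⟨1, 2⟩, ⟨1, 2⟩, ⟨2, 3⟩, ⟨3, 2⟩, ⟨2, 0⟩, ⟨1, 4⟩, ⟨1, 0⟩, ⟨4, 1⟩, ⟨3, 0⟩, ⟨3, 3⟩, ⟨2, 4⟩, ⟨4, 3⟩, ⟨1, 1⟩, ⟨0, 4⟩, ⟨1, 0⟩, ⟨4, 1⟩, ⟨3, 0⟩, ⟨1, 4⟩, ⟨0, 3⟩, ⟨3, 2⟩, ⟨1, 4⟩, ⟨1, 4⟩, ⟨4, 3⟩, ⟨4, 3⟩, ⟨2, 4⟩, ⟨2, 2⟩, ⟨4, 1⟩, ⟨2, 4⟩, ⟨3, 0⟩, ⟨4, 4⟩, ⟨2, 4⟩, ⟨2, 4⟩, ⟨2, 3⟩, ⟨3, 2⟩, ⟨3, 4⟩, ⟨1, 3⟩, ⟨3, 1⟩, ⟨4, 0⟩, ⟨3, 1⟩, ⟨1, 1⟩, ⟨0, 3⟩, ⟨2, 4⟩, ⟨4, 2⟩, ⟨1, 2⟩, ⟨4, 2⟩, ⟨1, 0⟩, ⟨0, 1⟩, ⟨2, 1⟩, ⟨4, 4⟩, ⟨0,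 1⟩, ⟨3, 4⟩, ⟨4, 4⟩, ⟨4, 3⟩, ⟨0, 2⟩, ⟨2, 0⟩, ⟨2, 4⟩, ⟨2, 0⟩, ⟨0, 4⟩, ⟨3, 1⟩, ⟨1, 1⟩, ⟨4, 3⟩, ⟨3, 4⟩, ⟨4, 0⟩, ⟨0, 1⟩, ⟨0, 4⟩, ⟨3, 1⟩, ⟨2, 1⟩, ⟨4, 2⟩, ⟨0, 2⟩, ⟨2, 4⟩, ⟨0, 3⟩, ⟨1, 1⟩, ⟨2, 2⟩, ⟨4, 4⟩, ⟨2, 4⟩, ⟨1, 0⟩, ⟨1, 0⟩, ⟨2, 3⟩, ⟨4, 1⟩, ⟨0, 4⟩, ⟨1, 4⟩, ⟨2, 1⟩, ⟨1, 4⟩, ⟨2, 2⟩, ⟨0, 4⟩, ⟨4, 0⟩, ⟨1, 0⟩, ⟨4, 0⟩, ⟨1, 4⟩, ⟨1, 1⟩, ⟨3, 3⟩, ⟨1, 0⟩, ⟨3, 3⟩, ⟨1, 3⟩, ⟨1, 4⟩, ⟨3, 0⟩, ⟨0, 3⟩]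

def pPt : Fin 126 → Fin 3 → Q5 :=
  ![![⟨0, 0⟩, ⟨1, 0⟩, ⟨2, 0⟩],
    ![⟨1, 0⟩, ⟨0, 1⟩, ⟨1, 0⟩],
    ![⟨1, 0⟩, ⟨0, 2⟩, ⟨3, 1⟩],
    ![⟨1, 0⟩, ⟨2, 4⟩, ⟨0, 3⟩],
    ![⟨1, 0⟩, ⟨3, 3⟩, ⟨4, 3⟩],
    ![⟨1, 0⟩, ⟨4, 0⟩, ⟨0, 4⟩],
    ![⟨1, 0⟩, ⟨0, 1⟩, ⟨2, 3⟩],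
    ![⟨1, 0⟩, ⟨1, 3⟩, ⟨2, 2⟩],
    ![⟨1, 0⟩, ⟨1, 0⟩, ⟨4, 3⟩],
    ![⟨0, 0⟩, ⟨1, 0⟩, ⟨3, 0⟩],
    ![⟨1, 0⟩, ⟨4, 3⟩, ⟨2, 3⟩],
    ![⟨1, 0⟩, ⟨2, 3⟩, ⟨4, 2⟩],
    ![⟨1, 0⟩, ⟨3, 1⟩, ⟨2, 4⟩],
    ![⟨1, 0⟩, ⟨0, 0⟩, ⟨4, 1⟩],
    ![⟨1, 0⟩, ⟨0, 3⟩, ⟨0, 3⟩],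
    ![⟨1, 0⟩, ⟨0, 2⟩, ⟨2, 4⟩],
    ![⟨1, 0⟩, ⟨2, 2⟩, ⟨1, 2⟩],
    ![⟨1, 0⟩, ⟨0, 0⟩, ⟨2, 0⟩],
    ![⟨1, 0⟩, ⟨3, 0⟩, ⟨0, 0⟩],
    ![⟨1, 0⟩, ⟨2, 1⟩, ⟨3, 1⟩],
    ![⟨1, 0⟩, ⟨4, 0⟩, ⟨4, 3⟩],
    ![⟨1, 0⟩, ⟨4, 3⟩, ⟨3, 3⟩],
    ![⟨1, 0⟩, ⟨0, 3⟩, ⟨0, 2⟩],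
    ![⟨1, 0⟩, ⟨3, 2⟩, ⟨4, 3⟩],
    ![⟨1, 0⟩, ⟨0, 1⟩, ⟨2, 2⟩],
    ![⟨1, 0⟩, ⟨0, 0⟩, ⟨1, 1⟩],
    ![⟨1, 0⟩, ⟨0, 0⟩, ⟨4, 4⟩],
    ![⟨1, 0⟩, ⟨3, 2⟩, ⟨1, 3⟩],
    ![⟨1, 0⟩, ⟨1, 3⟩, ⟨4, 0⟩],
    ![⟨1, 0⟩, ⟨2, 4⟩, ⟨3, 4⟩],
    ![⟨1, 0⟩, ⟨3, 3⟩, ⟨1, 2⟩],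
    ![⟨1, 0⟩, ⟨2, 2⟩, ⟨4, 3⟩],
    ![⟨1, 0⟩, ⟨0, 1⟩, ⟨4, 0⟩],
    ![⟨1, 0⟩, ⟨2, 3⟩, ⟨0, 4⟩],
    ![⟨0, 0⟩, ⟨1, 0⟩, ⟨4, 1⟩],
    ![⟨1, 0⟩, ⟨1, 0⟩, ⟨1, 3⟩],
    ![⟨1, 0⟩, ⟨1, 0⟩, ⟨0, 4⟩],
    ![⟨1, 0⟩, ⟨3, 4⟩, ⟨3, 1⟩],
    ![⟨1, 0⟩, ⟨1, 0⟩, ⟨0, 1⟩],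
    ![⟨1, 0⟩, ⟨4, 2⟩, ⟨2, 3⟩],
    ![⟨1, 0⟩, ⟨4, 0⟩, ⟨4, 2⟩],
    ![⟨1, 0⟩, ⟨3, 2⟩, ⟨0, 1⟩],
    ![⟨1, 0⟩, ⟨4, 4⟩, ⟨0, 0⟩],
    ![⟨1, 0⟩, ⟨3, 4⟩, ⟨0, 3⟩],
    ![⟨1, 0⟩, ⟨2, 4⟩, ⟨2, 4⟩],
    ![⟨1, 0⟩, ⟨3, 3⟩, ⟨4, 2⟩],
    ![⟨1, 0⟩, ⟨0, 2⟩, ⟨2, 1⟩],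
    ![⟨1, 0⟩, ⟨0, 4⟩, ⟨2, 2⟩],
    ![⟨1, 0⟩, ⟨4, 3⟩, ⟨3, 2⟩],
    ![⟨1, 0⟩, ⟨2, 1⟩, ⟨0, 2⟩],
    ![⟨1, 0⟩, ⟨0, 3⟩, ⟨2, 4⟩],
    ![⟨1, 0⟩, ⟨1, 2⟩, ⟨2, 3⟩],
    ![⟨1, 0⟩, ⟨2, 2⟩, ⟨1, 3⟩],
    ![⟨1, 0⟩, ⟨3, 2⟩, ⟨4, 2⟩],
    ![⟨1, 0⟩, ⟨1, 4⟩, ⟨0, 0⟩],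
    ![⟨0, 0⟩, ⟨1, 0⟩, ⟨1, 1⟩],
    ![⟨1, 0⟩, ⟨2, 4⟩, ⟨0, 2⟩],
    ![⟨1, 0⟩, ⟨1, 2⟩, ⟨2, 2⟩],
    ![⟨1, 0⟩, ⟨0, 3⟩, ⟨3, 1⟩],
    ![⟨1, 0⟩, ⟨4, 3⟩, ⟨4, 0⟩],
    ![⟨1, 0⟩, ⟨3, 3⟩, ⟨1, 3⟩],
    ![⟨1, 0⟩, ⟨0, 1⟩, ⟨3, 3⟩],
    ![⟨1, 0⟩, ⟨4, 3⟩, ⟨2, 2⟩],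
    ![⟨1, 0⟩, ⟨1, 0⟩, ⟨1, 2⟩],
    ![⟨0, 0⟩, ⟨1, 0⟩, ⟨1, 4⟩],
    ![⟨1, 0⟩, ⟨3, 4⟩, ⟨3, 4⟩],
    ![⟨1, 0⟩, ⟨1, 3⟩, ⟨1, 0⟩],
    ![⟨1, 0⟩, ⟨4, 0⟩, ⟨0, 1⟩],
    ![⟨1, 0⟩, ⟨2, 2⟩, ⟨0, 1⟩],
    ![⟨1, 0⟩, ⟨0, 0⟩, ⟨3, 0⟩],
    ![⟨1, 0⟩, ⟨4, 2⟩, ⟨3, 3⟩],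
    ![⟨1, 0⟩, ⟨0, 2⟩, ⟨3, 4⟩],
    ![⟨1, 0⟩, ⟨4, 2⟩, ⟨1, 0⟩],
    ![⟨1, 0⟩, ⟨0, 3⟩, ⟨2, 1⟩],
    ![⟨1, 0⟩, ⟨4, 0⟩, ⟨1, 3⟩],
    ![⟨1, 0⟩, ⟨2, 1⟩, ⟨0, 3⟩],
    ![⟨1, 0⟩, ⟨2, 4⟩, ⟨2, 1⟩],
    ![⟨1, 0⟩, ⟨3, 3⟩, ⟨0, 1⟩],
    ![⟨1, 0⟩, ⟨2, 3⟩, ⟨0, 1⟩],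
    ![⟨1, 0⟩, ⟨3, 4⟩, ⟨0, 2⟩],
    ![⟨1, 0⟩, ⟨0, 4⟩, ⟨1, 0⟩],
    ![⟨1, 0⟩, ⟨2, 1⟩, ⟨2, 1⟩],
    ![⟨1, 0⟩, ⟨0, 3⟩, ⟨3, 4⟩],
    ![⟨0, 0⟩, ⟨1, 0⟩, ⟨4, 4⟩],
    ![⟨1, 0⟩, ⟨3, 1⟩, ⟨0, 2⟩],
    ![⟨1, 0⟩, ⟨2, 0⟩, ⟨0, 0⟩],
    ![⟨1, 0⟩, ⟨4, 2⟩, ⟨2, 2⟩],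
    ![⟨1, 0⟩, ⟨2, 2⟩, ⟨0, 4⟩],
    ![⟨1, 0⟩, ⟨0, 4⟩, ⟨3, 2⟩],
    ![⟨1, 0⟩, ⟨2, 3⟩, ⟨4, 3⟩],
    ![⟨1, 0⟩, ⟨0, 4⟩, ⟨2, 3⟩],
    ![⟨1, 0⟩, ⟨3, 4⟩, ⟨2, 4⟩],
    ![⟨1, 0⟩, ⟨0, 4⟩, ⟨4, 0⟩],
    ![⟨1, 0⟩, ⟨2, 3⟩, ⟨1, 2⟩],
    ![⟨1, 0⟩, ⟨0, 4⟩, ⟨3, 3⟩],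
    ![⟨1, 0⟩, ⟨0, 2⟩, ⟨0, 3⟩],
    ![⟨1, 0⟩, ⟨3, 1⟩, ⟨3, 1⟩],
    ![⟨1, 0⟩, ⟨1, 2⟩, ⟨3, 3⟩],
    ![⟨1, 0⟩, ⟨3, 1⟩, ⟨2, 1⟩],
    ![⟨1, 0⟩, ⟨3, 4⟩, ⟨2, 1⟩],
    ![⟨1, 0⟩, ⟨1, 3⟩, ⟨2, 3⟩],
    ![⟨1, 0⟩, ⟨1, 2⟩, ⟨3, 2⟩],
    ![⟨1, 0⟩, ⟨4, 1⟩, ⟨0, 0⟩],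
    ![⟨1, 0⟩, ⟨1, 1⟩, ⟨0, 0⟩],
    ![⟨1, 0⟩, ⟨4, 3⟩, ⟨1, 0⟩],
    ![⟨1, 0⟩, ⟨3, 3⟩, ⟨0, 4⟩],
    ![⟨1, 0⟩, ⟨4, 2⟩, ⟨4, 0⟩],
    ![⟨1, 0⟩, ⟨3, 1⟩, ⟨3, 4⟩],
    ![⟨1, 0⟩, ⟨1, 0⟩, ⟨4, 2⟩],
    ![⟨1, 0⟩, ⟨1, 2⟩, ⟨1, 0⟩],
    ![⟨1, 0⟩, ⟨0, 0⟩, ⟨1, 4⟩],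
    ![⟨1, 0⟩, ⟨2, 1⟩, ⟨2, 4⟩],
    ![⟨1, 0⟩, ⟨0, 1⟩, ⟨3, 2⟩],
    ![⟨1, 0⟩, ⟨4, 0⟩, ⟨1, 2⟩],
    ![⟨1, 0⟩, ⟨1, 3⟩, ⟨3, 3⟩],
    ![⟨1, 0⟩, ⟨1, 3⟩, ⟨3, 2⟩],
    ![⟨1, 0⟩, ⟨2, 4⟩, ⟨3, 1⟩],
    ![⟨1, 0⟩, ⟨3, 2⟩, ⟨0, 4⟩],
    ![⟨1, 0⟩, ⟨3, 2⟩, ⟨1, 2⟩],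
    ![⟨1, 0⟩, ⟨4, 2⟩, ⟨3, 2⟩],
    ![⟨1, 0⟩, ⟨3, 1⟩, ⟨0, 3⟩],
    ![⟨1, 0⟩, ⟨0, 2⟩, ⟨0, 2⟩],
    ![⟨1, 0⟩, ⟨2, 3⟩, ⟨1, 3⟩],
    ![⟨1, 0⟩, ⟨2, 2⟩, ⟨4, 2⟩],
    ![⟨1, 0⟩, ⟨1, 2⟩, ⟨4, 0⟩],
    ![⟨1, 0⟩, ⟨2, 1⟩, ⟨3, 4⟩]]

def pPar : Fin 126 → Fin 126 :=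
  ![0, 0, 0, 1, 1, 2, 2, 4, 4, 5, 5, 6, 6, 7, 7, 8, 8, 10, 11, 12, 12, 14, 15, 16, 16, 17, 17, 18, 18, 19, 19, 20, 21, 21, 22, 22, 23, 23, 24, 25, 25, 26, 27, 27, 28, 28, 29, 30, 30, 31, 31, 32, 32, 33, 33, 34, 34, 35, 36, 37, 38, 38, 39, 40, 41, 41, 42, 43, 44, 44, 47, 48, 48, 49, 50, 50, 51, 52, 53, 53, 56, 60, 61, 65, 68, 69, 69, 71, 72, 73, 73, 74, 74, 75, 79, 81, 81, 82, 84, 85, 85, 87, 89, 90, 91, 92, 93, 95, 96, 97, 98, 99, 100, 101, 102, 103, 104, 105, 106, 107, 108, 109, 110,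 111, 112, 113]

def pGen : Fin 126 → Bool :=
  ![true, true, false, true, false, true, false, true, false, true, false, true, false, true, false, true, false, false, false, true, false, false, false, true, false, true, false, true, false, true, false, true, true, false, true, false, true, false, true, true, false, true, true, false, true, false, false, true, false, true, false, true, false, true, false, true, false, false, false, true, true, false, false, true, true, false, false, true,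 true, false, true, true, false, false, true, false, false, true, true, false, true, false, false, false, false, true, false, false, false, true, false, true, false, true, false, true, false, true, true, true, false, true, false, true, false, true, true, false, true, true, false, false, true, false, false, false, false, false, false, false, false, false, false, false, false, false]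

def rep : Fin 126 → M3 :=
  ![!![⟨1, 0⟩, ⟨0, 0⟩, ⟨0, 0⟩; ⟨0, 0⟩, ⟨1, 0⟩, ⟨0, 0⟩; ⟨0, 0⟩, ⟨0, 0⟩, ⟨1, 0⟩],
    !![⟨4, 0⟩, ⟨4, 1⟩, ⟨4, 0⟩; ⟨1, 0⟩, ⟨3, 2⟩, ⟨2, 0⟩; ⟨1, 1⟩, ⟨1, 0⟩, ⟨3, 3⟩],
    !![⟨2, 1⟩, ⟨3, 1⟩, ⟨3, 4⟩; ⟨3, 2⟩, ⟨4, 0⟩, ⟨1, 4⟩; ⟨4, 3⟩, ⟨0, 1⟩, ⟨0, 0⟩],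
    !![⟨4, 0⟩, ⟨1, 0⟩, ⟨1, 4⟩; ⟨4, 4⟩, ⟨3, 3⟩, ⟨1, 0⟩; ⟨4, 0⟩, ⟨2, 0⟩, ⟨3, 2⟩],
    !![⟨2, 2⟩, ⟨1, 4⟩, ⟨2, 2⟩; ⟨0, 3⟩, ⟨4, 3⟩, ⟨2, 3⟩; ⟨1, 3⟩, ⟨1, 4⟩, ⟨1, 4⟩],
    !![⟨0, 2⟩, ⟨3, 2⟩, ⟨4, 3⟩; ⟨2, 4⟩, ⟨0, 1⟩, ⟨2, 3⟩; ⟨2, 1⟩, ⟨0, 2⟩, ⟨2, 1⟩],
    !![⟨0, 3⟩, ⟨3, 2⟩, ⟨0, 4⟩; ⟨0, 4⟩, ⟨2, 0⟩, ⟨4, 4⟩; ⟨3, 3⟩, ⟨3, 2⟩, ⟨4, 1⟩],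
    !![⟨3, 2⟩, ⟨0, 3⟩, ⟨1, 3⟩; ⟨1, 2⟩, ⟨2, 4⟩, ⟨2, 3⟩; ⟨2, 4⟩, ⟨0, 3⟩, ⟨0, 2⟩],
    !![⟨1, 3⟩, ⟨3, 3⟩, ⟨0, 3⟩; ⟨4, 4⟩, ⟨3, 4⟩, ⟨0, 0⟩; ⟨1, 4⟩, ⟨4, 3⟩, ⟨1, 1⟩],
    !![⟨4, 0⟩, ⟨4, 0⟩, ⟨3, 0⟩; ⟨1, 0⟩, ⟨2, 4⟩, ⟨1, 3⟩; ⟨3, 0⟩, ⟨4, 2⟩, ⟨4, 4⟩],
    !![⟨2, 4⟩, ⟨3, 1⟩, ⟨0, 2⟩; ⟨1, 1⟩, ⟨3, 3⟩, ⟨2, 3⟩; ⟨0, 0⟩, ⟨1, 2⟩, ⟨0, 1⟩],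
    !![⟨0, 0⟩, ⟨2, 3⟩, ⟨0, 0⟩; ⟨2, 1⟩, ⟨0, 0⟩, ⟨1, 1⟩; ⟨3, 0⟩, ⟨0, 0⟩, ⟨0, 3⟩],
    !![⟨2, 4⟩, ⟨1, 2⟩, ⟨3, 3⟩; ⟨4, 0⟩, ⟨4, 1⟩, ⟨4, 0⟩; ⟨1, 2⟩, ⟨4, 4⟩, ⟨2, 0⟩],
    !![⟨3, 3⟩, ⟨1, 2⟩, ⟨3, 4⟩; ⟨3, 3⟩, ⟨2, 0⟩, ⟨4, 0⟩; ⟨3, 0⟩, ⟨1, 1⟩, ⟨1, 3⟩],
    !![⟨0, 4⟩, ⟨4, 4⟩, ⟨1, 4⟩; ⟨0, 2⟩, ⟨4, 3⟩, ⟨4, 0⟩; ⟨3, 3⟩, ⟨1, 4⟩, ⟨3, 2⟩],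
    !![⟨2, 3⟩, ⟨3, 3⟩, ⟨4, 1⟩; ⟨1, 1⟩, ⟨1, 2⟩, ⟨2, 0⟩; ⟨3, 3⟩, ⟨2, 1⟩, ⟨0, 4⟩],
    !![⟨3, 4⟩, ⟨0, 4⟩, ⟨2, 3⟩; ⟨4, 0⟩, ⟨1, 0⟩, ⟨1, 4⟩; ⟨0, 4⟩, ⟨3, 4⟩, ⟨3, 2⟩],
    !![⟨2, 4⟩, ⟨2, 2⟩, ⟨4, 3⟩; ⟨1, 0⟩, ⟨2, 2⟩, ⟨4, 4⟩; ⟨4, 3⟩, ⟨4, 1⟩, ⟨3, 0⟩],
    !![⟨2, 2⟩, ⟨0, 3⟩, ⟨4, 3⟩; ⟨1, 1⟩, ⟨3, 3⟩, ⟨3, 2⟩; ⟨2, 2⟩, ⟨1, 3⟩, ⟨2, 1⟩],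
    !![⟨3, 3⟩, ⟨3, 2⟩, ⟨1, 1⟩; ⟨1, 1⟩, ⟨0, 1⟩, ⟨4, 1⟩; ⟨4, 0⟩, ⟨0, 3⟩, ⟨4, 2⟩],
    !![⟨3, 4⟩, ⟨4, 0⟩, ⟨0, 1⟩; ⟨0, 2⟩, ⟨3, 2⟩, ⟨4, 3⟩; ⟨2, 1⟩, ⟨3, 0⟩, ⟨0, 0⟩],
    !![⟨0, 0⟩, ⟨4, 1⟩, ⟨2, 1⟩; ⟨3, 0⟩, ⟨2, 0⟩, ⟨4, 3⟩; ⟨3, 1⟩, ⟨1, 2⟩, ⟨3, 3⟩],
    !![⟨3, 3⟩, ⟨3, 2⟩, ⟨3, 0⟩; ⟨4, 2⟩, ⟨0, 2⟩, ⟨1, 0⟩; ⟨3, 4⟩, ⟨4, 2⟩, ⟨2, 3⟩],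
    !![⟨3, 1⟩, ⟨1, 3⟩, ⟨2, 2⟩; ⟨0, 0⟩, ⟨4, 4⟩, ⟨2, 1⟩; ⟨4, 4⟩, ⟨2, 0⟩, ⟨0, 4⟩],
    !![⟨3, 2⟩, ⟨2, 3⟩, ⟨1, 4⟩; ⟨3, 2⟩, ⟨0, 3⟩, ⟨1, 3⟩; ⟨1, 4⟩, ⟨4, 2⟩, ⟨4, 4⟩],
    !![⟨3, 4⟩, ⟨1, 2⟩, ⟨2, 2⟩; ⟨3, 2⟩, ⟨4, 4⟩, ⟨3, 3⟩; ⟨1, 2⟩, ⟨1, 1⟩, ⟨3, 0⟩],
    !![⟨1, 1⟩, ⟨3, 3⟩, ⟨3, 3⟩; ⟨4, 0⟩, ⟨4, 0⟩, ⟨3, 0⟩; ⟨2, 3⟩, ⟨4, 1⟩, ⟨2, 3⟩],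
    !![⟨2, 1⟩, ⟨2, 4⟩, ⟨0, 2⟩; ⟨3, 1⟩, ⟨3, 4⟩, ⟨0, 2⟩; ⟨0, 2⟩, ⟨0, 3⟩, ⟨0, 3⟩],
    !![⟨0, 4⟩, ⟨3, 1⟩, ⟨1, 0⟩; ⟨1, 4⟩, ⟨4, 3⟩, ⟨1, 4⟩; ⟨2, 0⟩, ⟨4, 0⟩, ⟨3, 2⟩],
    !![⟨4, 2⟩, ⟨4, 4⟩, ⟨3, 0⟩; ⟨3, 3⟩, ⟨2, 1⟩, ⟨0, 1⟩; ⟨2, 4⟩, ⟨0, 0⟩, ⟨1, 1⟩],
    !![⟨4, 4⟩, ⟨1, 4⟩, ⟨1, 2⟩; ⟨4, 0⟩, ⟨1, 4⟩, ⟨3, 2⟩; ⟨2, 2⟩, ⟨1, 2⟩, ⟨2, 1⟩],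
    !![⟨4, 3⟩, ⟨4, 1⟩, ⟨2, 0⟩; ⟨0, 2⟩, ⟨2, 2⟩, ⟨4, 3⟩; ⟨3, 3⟩, ⟨1, 0⟩, ⟨1, 4⟩],
    !![⟨4, 2⟩, ⟨3, 4⟩, ⟨2, 2⟩; ⟨0, 3⟩, ⟨2, 4⟩, ⟨2, 4⟩; ⟨3, 2⟩, ⟨3, 4⟩, ⟨0, 4⟩],
    !![⟨1, 3⟩, ⟨0, 3⟩, ⟨2, 3⟩; ⟨3, 3⟩, ⟨1, 2⟩, ⟨3, 4⟩; ⟨0, 3⟩, ⟨2, 3⟩, ⟨0, 4⟩],
    !![⟨4, 0⟩, ⟨2, 4⟩, ⟨4, 3⟩; ⟨4, 0⟩, ⟨4, 2⟩, ⟨0, 3⟩; ⟨1, 4⟩, ⟨1, 0⟩, ⟨3, 3⟩],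
    !![⟨4, 3⟩, ⟨2, 0⟩, ⟨4, 1⟩; ⟨2, 4⟩, ⟨2, 3⟩, ⟨4, 2⟩; ⟨4, 0⟩, ⟨3, 2⟩, ⟨2, 0⟩],
    !![⟨3, 0⟩, ⟨1, 2⟩, ⟨3, 0⟩; ⟨1, 4⟩, ⟨3, 3⟩, ⟨2, 2⟩; ⟨1, 3⟩, ⟨2, 4⟩, ⟨2, 2⟩],
    !![⟨2, 3⟩, ⟨4, 1⟩, ⟨3, 3⟩; ⟨4, 4⟩, ⟨3, 0⟩, ⟨4, 3⟩; ⟨3, 3⟩, ⟨0, 4⟩, ⟨2, 1⟩],
    !![⟨2, 0⟩, ⟨0, 2⟩, ⟨0, 0⟩; ⟨2, 2⟩, ⟨2, 1⟩, ⟨4, 3⟩; ⟨2, 2⟩, ⟨2, 1⟩, ⟨1, 2⟩],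
    !![⟨2, 0⟩, ⟨2, 2⟩, ⟨3, 3⟩; ⟨2, 0⟩, ⟨1, 4⟩, ⟨4, 2⟩; ⟨4, 3⟩, ⟨3, 3⟩, ⟨3, 1⟩],
    !![⟨1, 0⟩, ⟨2, 3⟩, ⟨2, 0⟩; ⟨4, 2⟩, ⟨1, 4⟩, ⟨4, 4⟩; ⟨0, 3⟩, ⟨4, 0⟩, ⟨1, 2⟩],
    !![⟨3, 0⟩, ⟨4, 0⟩, ⟨2, 2⟩; ⟨2, 0⟩, ⟨3, 3⟩, ⟨1, 0⟩; ⟨1, 2⟩, ⟨1, 1⟩, ⟨1, 1⟩],
    !![⟨2, 4⟩, ⟨3, 2⟩, ⟨4, 3⟩; ⟨0, 4⟩, ⟨2, 3⟩, ⟨3, 4⟩; ⟨4, 0⟩, ⟨1, 4⟩, ⟨2, 3⟩],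
    !![⟨3, 1⟩, ⟨3, 4⟩, ⟨2, 4⟩; ⟨3, 3⟩, ⟨3, 0⟩, ⟨2, 2⟩; ⟨1, 3⟩, ⟨0, 0⟩, ⟨1, 3⟩],
    !![⟨0, 3⟩, ⟨0, 0⟩, ⟨3, 0⟩; ⟨3, 3⟩, ⟨0, 3⟩, ⟨1, 3⟩; ⟨0, 4⟩, ⟨1, 4⟩, ⟨3, 0⟩],
    !![⟨0, 4⟩, ⟨3, 4⟩, ⟨3, 2⟩; ⟨2, 1⟩, ⟨3, 2⟩, ⟨1, 2⟩; ⟨2, 2⟩, ⟨4, 2⟩, ⟨2, 4⟩],
    !![⟨0, 0⟩, ⟨4, 2⟩, ⟨4, 3⟩; ⟨1, 3⟩, ⟨1, 4⟩, ⟨3, 0⟩; ⟨4, 3⟩, ⟨2, 0⟩, ⟨4, 4⟩],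
    !![⟨0, 3⟩, ⟨0, 1⟩, ⟨3, 3⟩; ⟨0, 1⟩, ⟨2, 2⟩, ⟨2, 1⟩; ⟨4, 0⟩, ⟨0, 3⟩, ⟨0, 4⟩],
    !![⟨0, 0⟩, ⟨0, 2⟩, ⟨3, 0⟩; ⟨2, 0⟩, ⟨0, 1⟩, ⟨3, 0⟩; ⟨0, 2⟩, ⟨1, 0⟩, ⟨0, 4⟩],
    !![⟨2, 2⟩, ⟨2, 4⟩, ⟨4, 2⟩; ⟨3, 0⟩, ⟨0, 1⟩, ⟨3, 0⟩; ⟨2, 2⟩, ⟨1, 0⟩, ⟨3, 0⟩],
    !![⟨1, 2⟩, ⟨3, 3⟩, ⟨2, 1⟩; ⟨1, 0⟩, ⟨0, 3⟩, ⟨0, 4⟩; ⟨3, 4⟩, ⟨1, 3⟩, ⟨4, 0⟩],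
    !![⟨4, 3⟩, ⟨0, 0⟩, ⟨4, 2⟩; ⟨2, 0⟩, ⟨1, 3⟩, ⟨4, 1⟩; ⟨4, 4⟩, ⟨1, 2⟩, ⟨2, 0⟩],
    !![⟨3, 0⟩, ⟨4, 4⟩, ⟨4, 2⟩; ⟨4, 0⟩, ⟨3, 0⟩, ⟨4, 0⟩; ⟨4, 0⟩, ⟨4, 2⟩, ⟨3, 1⟩],
    !![⟨2, 4⟩, ⟨1, 3⟩, ⟨3, 2⟩; ⟨2, 4⟩, ⟨0, 2⟩, ⟨2, 4⟩; ⟨3, 1⟩, ⟨1, 0⟩, ⟨0, 1⟩],
    !![⟨2, 3⟩, ⟨3, 0⟩, ⟨4, 0⟩; ⟨1, 1⟩, ⟨2, 3⟩, ⟨2, 3⟩; ⟨3, 3⟩, ⟨2, 3⟩, ⟨4, 1⟩],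
    !![⟨1, 0⟩, ⟨2, 3⟩, ⟨4, 1⟩; ⟨3, 1⟩, ⟨4, 3⟩, ⟨2, 3⟩; ⟨0, 4⟩, ⟨2, 1⟩, ⟨2, 3⟩],
    !![⟨0, 4⟩, ⟨1, 4⟩, ⟨3, 0⟩; ⟨1, 1⟩, ⟨4, 3⟩, ⟨1, 4⟩; ⟨1, 1⟩, ⟨1, 1⟩, ⟨0, 4⟩],
    !![⟨0, 0⟩, ⟨1, 1⟩, ⟨2, 4⟩; ⟨1, 4⟩, ⟨3, 0⟩, ⟨4, 2⟩; ⟨2, 1⟩, ⟨4, 3⟩, ⟨1, 0⟩],
    !![⟨4, 4⟩, ⟨4, 2⟩, ⟨3, 0⟩; ⟨3, 4⟩, ⟨2, 2⟩, ⟨0, 4⟩; ⟨0, 0⟩, ⟨2, 4⟩, ⟨1, 1⟩],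
    !![⟨4, 4⟩, ⟨3, 3⟩, ⟨2, 2⟩; ⟨1, 4⟩, ⟨3, 0⟩, ⟨1, 2⟩; ⟨4, 2⟩, ⟨3, 2⟩, ⟨0, 3⟩],
    !![⟨3, 3⟩, ⟨3, 3⟩, ⟨1, 4⟩; ⟨0, 4⟩, ⟨4, 1⟩, ⟨1, 1⟩; ⟨2, 1⟩, ⟨3, 2⟩, ⟨4, 2⟩],
    !![⟨1, 4⟩, ⟨1, 0⟩, ⟨2, 3⟩; ⟨2, 2⟩, ⟨1, 4⟩, ⟨3, 3⟩; ⟨2, 3⟩, ⟨4, 0⟩, ⟨1, 4⟩],
    !![⟨1, 4⟩, ⟨2, 0⟩, ⟨0, 4⟩; ⟨2, 3⟩, ⟨0, 1⟩, ⟨3, 1⟩; ⟨3, 3⟩, ⟨3, 0⟩, ⟨4, 0⟩],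
    !![⟨4, 4⟩, ⟨1, 4⟩, ⟨1, 3⟩; ⟨1, 0⟩, ⟨4, 2⟩, ⟨2, 4⟩; ⟨3, 2⟩, ⟨1, 1⟩, ⟨1, 0⟩],
    !![⟨4, 0⟩, ⟨3, 4⟩, ⟨1, 3⟩; ⟨1, 3⟩, ⟨2, 2⟩, ⟨2, 1⟩; ⟨0, 2⟩, ⟨1, 3⟩, ⟨1, 0⟩],
    !![⟨1, 0⟩, ⟨4, 3⟩, ⟨2, 4⟩; ⟨4, 2⟩, ⟨3, 0⟩, ⟨2, 0⟩; ⟨2, 1⟩, ⟨2, 0⟩, ⟨0, 0⟩],
    !![⟨2, 3⟩, ⟨2, 4⟩, ⟨1, 2⟩; ⟨1, 3⟩, ⟨3, 2⟩, ⟨2, 4⟩; ⟨0, 2⟩, ⟨0, 4⟩, ⟨2, 2⟩],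
    !![⟨4, 1⟩, ⟨4, 4⟩, ⟨4, 3⟩; ⟨1, 2⟩, ⟨2, 0⟩, ⟨3, 0⟩; ⟨4, 4⟩, ⟨4, 2⟩, ⟨3, 0⟩],
    !![⟨3, 3⟩, ⟨0, 3⟩, ⟨4, 3⟩; ⟨1, 1⟩, ⟨4, 2⟩, ⟨4, 1⟩; ⟨3, 3⟩, ⟨2, 3⟩, ⟨3, 0⟩],
    !![⟨3, 0⟩, ⟨1, 0⟩, ⟨4, 0⟩; ⟨1, 0⟩, ⟨3, 0⟩, ⟨1, 0⟩; ⟨4, 0⟩, ⟨1, 0⟩, ⟨3, 0⟩],
    !![⟨3, 1⟩, ⟨2, 1⟩, ⟨2, 4⟩; ⟨2, 1⟩, ⟨4, 2⟩, ⟨3, 3⟩; ⟨3, 1⟩, ⟨2, 2⟩, ⟨0, 4⟩],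
    !![⟨3, 0⟩, ⟨1, 2⟩, ⟨4, 4⟩; ⟨1, 3⟩, ⟨1, 0⟩, ⟨2, 4⟩; ⟨4, 1⟩, ⟨2, 1⟩, ⟨0, 0⟩],
    !![⟨2, 3⟩, ⟨4, 1⟩, ⟨2, 3⟩; ⟨4, 2⟩, ⟨4, 4⟩, ⟨3, 0⟩; ⟨0, 2⟩, ⟨4, 3⟩, ⟨2, 2⟩],
    !![⟨4, 3⟩, ⟨2, 2⟩, ⟨0, 3⟩; ⟨4, 0⟩, ⟨3, 4⟩, ⟨0, 1⟩; ⟨0, 2⟩, ⟨4, 2⟩, ⟨3, 3⟩],
    !![⟨0, 0⟩, ⟨2, 1⟩, ⟨2, 0⟩; ⟨0, 2⟩, ⟨2, 3⟩, ⟨1, 3⟩; ⟨4, 4⟩, ⟨0, 1⟩, ⟨1, 4⟩],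
    !![⟨0, 0⟩, ⟨0, 1⟩, ⟨1, 2⟩; ⟨0, 4⟩, ⟨1, 4⟩, ⟨4, 4⟩; ⟨1, 2⟩, ⟨1, 1⟩, ⟨2, 0⟩],
    !![⟨4, 0⟩, ⟨3, 0⟩, ⟨2, 3⟩; ⟨3, 2⟩, ⟨1, 3⟩, ⟨3, 1⟩; ⟨4, 1⟩, ⟨1, 1⟩, ⟨0, 4⟩],
    !![⟨4, 4⟩, ⟨4, 2⟩, ⟨4, 1⟩; ⟨3, 3⟩, ⟨1, 4⟩, ⟨2, 2⟩; ⟨4, 0⟩, ⟨4, 1⟩, ⟨2, 3⟩],
    !![⟨1, 3⟩, ⟨2, 0⟩, ⟨3, 0⟩; ⟨0, 2⟩, ⟨1, 4⟩, ⟨0, 0⟩; ⟨2, 2⟩, ⟨0, 4⟩, ⟨0, 2⟩],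
    !![⟨3, 4⟩, ⟨0, 2⟩, ⟨2, 4⟩; ⟨1, 0⟩, ⟨1, 3⟩, ⟨3, 4⟩; ⟨0, 4⟩, ⟨1, 0⟩, ⟨2, 4⟩],
    !![⟨0, 0⟩, ⟨0, 1⟩, ⟨4, 3⟩; ⟨4, 1⟩, ⟨2, 3⟩, ⟨2, 2⟩; ⟨3, 1⟩, ⟨2, 4⟩, ⟨3, 4⟩],
    !![⟨4, 2⟩, ⟨1, 4⟩, ⟨3, 0⟩; ⟨1, 0⟩, ⟨1, 3⟩, ⟨3, 1⟩; ⟨3, 1⟩, ⟨2, 0⟩, ⟨0, 0⟩],
    !![⟨0, 4⟩, ⟨0, 0⟩, ⟨0, 1⟩; ⟨3, 3⟩, ⟨1, 4⟩, ⟨3, 3⟩; ⟨2, 1⟩, ⟨2, 4⟩, ⟨2, 1⟩],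
    !![⟨2, 2⟩, ⟨4, 1⟩, ⟨3, 2⟩; ⟨4, 4⟩, ⟨3, 0⟩, ⟨0, 1⟩; ⟨3, 2⟩, ⟨4, 2⟩, ⟨2, 4⟩],
    !![⟨0, 4⟩, ⟨2, 3⟩, ⟨2, 4⟩; ⟨2, 4⟩, ⟨4, 3⟩, ⟨3, 3⟩; ⟨2, 2⟩, ⟨2, 1⟩, ⟨1, 3⟩],
    !![⟨2, 1⟩, ⟨0, 3⟩, ⟨2, 1⟩; ⟨4, 2⟩, ⟨2, 1⟩, ⟨3, 2⟩; ⟨1, 0⟩, ⟨2, 4⟩, ⟨4, 3⟩],
    !![⟨1, 0⟩, ⟨4, 3⟩, ⟨0, 2⟩; ⟨2, 2⟩, ⟨1, 1⟩, ⟨4, 0⟩; ⟨2, 0⟩, ⟨4, 1⟩, ⟨1, 3⟩],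
    !![⟨0, 2⟩, ⟨3, 2⟩, ⟨0, 1⟩; ⟨0, 0⟩, ⟨0, 2⟩, ⟨1, 1⟩; ⟨3, 0⟩, ⟨1, 2⟩, ⟨3, 0⟩],
    !![⟨2, 4⟩, ⟨1, 2⟩, ⟨1, 0⟩; ⟨0, 3⟩, ⟨0, 1⟩, ⟨3, 3⟩; ⟨0, 2⟩, ⟨0, 0⟩, ⟨1, 1⟩],
    !![⟨2, 4⟩, ⟨4, 0⟩, ⟨4, 3⟩; ⟨1, 0⟩, ⟨0, 4⟩, ⟨0, 2⟩; ⟨1, 3⟩, ⟨3, 1⟩, ⟨3, 2⟩],
    !![⟨2, 0⟩, ⟨3, 3⟩, ⟨1, 0⟩; ⟨1, 4⟩, ⟨1, 4⟩, ⟨4, 3⟩; ⟨4, 3⟩, ⟨3, 2⟩, ⟨0, 2⟩],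
    !![⟨0, 4⟩, ⟨2, 2⟩, ⟨2, 4⟩; ⟨1, 4⟩, ⟨0, 1⟩, ⟨4, 4⟩; ⟨1, 1⟩, ⟨2, 4⟩, ⟨0, 0⟩],
    !![⟨3, 4⟩, ⟨1, 3⟩, ⟨3, 3⟩; ⟨1, 3⟩, ⟨1, 0⟩, ⟨3, 4⟩; ⟨4, 0⟩, ⟨0, 2⟩, ⟨4, 2⟩],
    !![⟨2, 4⟩, ⟨1, 0⟩, ⟨1, 3⟩; ⟨3, 1⟩, ⟨1, 2⟩, ⟨3, 2⟩; ⟨0, 3⟩, ⟨2, 1⟩, ⟨0, 3⟩],
    !![⟨4, 4⟩, ⟨1, 3⟩, ⟨2, 0⟩; ⟨1, 2⟩, ⟨3, 2⟩, ⟨3, 4⟩; ⟨1, 1⟩, ⟨3, 4⟩, ⟨0, 0⟩],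
    !![⟨2, 3⟩, ⟨2, 4⟩, ⟨1, 2⟩; ⟨3, 1⟩, ⟨0, 0⟩, ⟨1, 4⟩; ⟨4, 3⟩, ⟨1, 4⟩, ⟨1, 4⟩],
    !![⟨2, 4⟩, ⟨0, 2⟩, ⟨2, 4⟩; ⟨0, 2⟩, ⟨0, 4⟩, ⟨1, 0⟩; ⟨3, 1⟩, ⟨4, 0⟩, ⟨4, 2⟩],
    !![⟨1, 0⟩, ⟨0, 3⟩, ⟨1, 3⟩; ⟨0, 1⟩, ⟨3, 2⟩, ⟨0, 3⟩; ⟨3, 1⟩, ⟨1, 2⟩, ⟨2, 3⟩],
    !![⟨4, 2⟩, ⟨3, 2⟩, ⟨0, 3⟩; ⟨1, 4⟩, ⟨0, 2⟩, ⟨0, 0⟩; ⟨3, 0⟩, ⟨4, 2⟩, ⟨4, 1⟩],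
    !![⟨2, 1⟩, ⟨3, 4⟩, ⟨0, 2⟩; ⟨4, 0⟩, ⟨4, 3⟩, ⟨2, 4⟩; ⟨1, 3⟩, ⟨3, 2⟩, ⟨2, 1⟩],
    !![⟨0, 3⟩, ⟨2, 1⟩, ⟨0, 3⟩; ⟨2, 4⟩, ⟨4, 0⟩, ⟨0, 4⟩; ⟨3, 4⟩, ⟨0, 4⟩, ⟨3, 3⟩],
    !![⟨2, 3⟩, ⟨0, 4⟩, ⟨3, 4⟩; ⟨1, 2⟩, ⟨3, 2⟩, ⟨3, 1⟩; ⟨3, 1⟩, ⟨2, 1⟩, ⟨2, 1⟩],
    !![⟨2, 4⟩, ⟨3, 1⟩, ⟨3, 4⟩; ⟨1, 3⟩, ⟨3, 2⟩, ⟨3, 4⟩; ⟨2, 3⟩, ⟨4, 2⟩, ⟨3, 4⟩],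
    !![⟨1, 4⟩, ⟨1, 2⟩, ⟨1, 4⟩; ⟨4, 0⟩, ⟨3, 1⟩, ⟨0, 1⟩; ⟨3, 2⟩, ⟨1, 0⟩, ⟨2, 0⟩],
    !![⟨0, 3⟩, ⟨3, 4⟩, ⟨2, 1⟩; ⟨4, 3⟩, ⟨3, 1⟩, ⟨3, 2⟩; ⟨2, 2⟩, ⟨2, 4⟩, ⟨0, 1⟩],
    !![⟨3, 4⟩, ⟨3, 1⟩, ⟨3, 4⟩; ⟨1, 0⟩, ⟨4, 4⟩, ⟨1, 0⟩; ⟨4, 2⟩, ⟨0, 0⟩, ⟨1, 3⟩],
    !![⟨2, 0⟩, ⟨0, 3⟩, ⟨0, 0⟩; ⟨0, 4⟩, ⟨1, 0⟩, ⟨3, 1⟩; ⟨1, 1⟩, ⟨4, 2⟩, ⟨3, 0⟩],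
    !![⟨2, 4⟩, ⟨2, 1⟩, ⟨2, 4⟩; ⟨3, 1⟩, ⟨0, 4⟩, ⟨3, 2⟩; ⟨3, 1⟩, ⟨2, 2⟩, ⟨4, 2⟩],
    !![⟨4, 3⟩, ⟨4, 4⟩, ⟨3, 0⟩; ⟨1, 2⟩, ⟨4, 4⟩, ⟨3, 0⟩; ⟨0, 0⟩, ⟨1, 3⟩, ⟨0, 4⟩],
    !![⟨3, 3⟩, ⟨0, 1⟩, ⟨3, 1⟩; ⟨1, 0⟩, ⟨4, 4⟩, ⟨2, 3⟩; ⟨1, 4⟩, ⟨4, 4⟩, ⟨1, 2⟩],
    !![⟨2, 3⟩, ⟨2, 0⟩, ⟨1, 0⟩; ⟨2, 2⟩, ⟨2, 3⟩, ⟨4, 1⟩; ⟨1, 1⟩, ⟨3, 2⟩, ⟨3, 2⟩],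
    !![⟨0, 1⟩, ⟨2, 2⟩, ⟨2, 4⟩; ⟨1, 4⟩, ⟨0, 4⟩, ⟨1, 1⟩; ⟨4, 4⟩, ⟨2, 4⟩, ⟨0, 0⟩],
    !![⟨3, 1⟩, ⟨4, 4⟩, ⟨0, 0⟩; ⟨3, 2⟩, ⟨4, 2⟩, ⟨2, 1⟩; ⟨1, 3⟩, ⟨2, 0⟩, ⟨3, 0⟩],
    !![⟨4, 0⟩, ⟨0, 3⟩, ⟨4, 3⟩; ⟨3, 4⟩, ⟨3, 4⟩, ⟨2, 1⟩; ⟨0, 4⟩, ⟨3, 4⟩, ⟨3, 3⟩],
    !![⟨1, 2⟩, ⟨4, 1⟩, ⟨2, 0⟩; ⟨2, 4⟩, ⟨0, 0⟩, ⟨2, 0⟩; ⟨3, 3⟩, ⟨2, 1⟩, ⟨4, 3⟩],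
    !![⟨2, 1⟩, ⟨0, 0⟩, ⟨3, 0⟩; ⟨4, 3⟩, ⟨4, 1⟩, ⟨1, 1⟩; ⟨3, 3⟩, ⟨3, 4⟩, ⟨0, 4⟩],
    !![⟨1, 3⟩, ⟨3, 2⟩, ⟨2, 1⟩; ⟨1, 1⟩, ⟨1, 4⟩, ⟨0, 1⟩; ⟨4, 1⟩, ⟨3, 3⟩, ⟨3, 3⟩],
    !![⟨0, 4⟩, ⟨3, 1⟩, ⟨4, 0⟩; ⟨4, 1⟩, ⟨4, 0⟩, ⟨4, 0⟩; ⟨1, 1⟩, ⟨1, 2⟩, ⟨1, 1⟩],
    !![⟨3, 1⟩, ⟨2, 4⟩, ⟨0, 3⟩; ⟨0, 0⟩, ⟨1, 2⟩, ⟨0, 1⟩; ⟨1, 1⟩, ⟨3, 3⟩, ⟨2, 3⟩],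
    !![⟨0, 1⟩, ⟨1, 0⟩, ⟨3, 1⟩; ⟨0, 3⟩, ⟨3, 3⟩, ⟨4, 2⟩; ⟨4, 0⟩, ⟨2, 0⟩, ⟨1, 0⟩],
    !![⟨1, 2⟩, ⟨3, 1⟩, ⟨2, 3⟩; ⟨3, 0⟩, ⟨4, 3⟩, ⟨3, 0⟩; ⟨3, 0⟩, ⟨3, 2⟩, ⟨2, 2⟩],
    !![⟨0, 1⟩, ⟨1, 1⟩, ⟨4, 1⟩; ⟨3, 3⟩, ⟨1, 4⟩, ⟨3, 2⟩; ⟨0, 2⟩, ⟨4, 3⟩, ⟨4, 0⟩],
    !![⟨1, 3⟩, ⟨1, 1⟩, ⟨1, 1⟩; ⟨0, 1⟩, ⟨3, 0⟩, ⟨3, 0⟩; ⟨0, 0⟩, ⟨4, 3⟩, ⟨1, 2⟩],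
    !![⟨2, 3⟩, ⟨4, 3⟩, ⟨2, 4⟩; ⟨4, 4⟩, ⟨3, 3⟩, ⟨1, 0⟩; ⟨4, 0⟩, ⟨3, 4⟩, ⟨4, 3⟩],
    !![⟨3, 2⟩, ⟨3, 0⟩, ⟨2, 2⟩; ⟨0, 4⟩, ⟨1, 1⟩, ⟨1, 1⟩; ⟨2, 1⟩, ⟨4, 2⟩, ⟨2, 2⟩],
    !![⟨2, 1⟩, ⟨4, 0⟩, ⟨0, 1⟩; ⟨1, 3⟩, ⟨4, 1⟩, ⟨4, 1⟩; ⟨4, 0⟩, ⟨1, 0⟩, ⟨1, 1⟩]]

def sgI : Fin 2 → Fin 126 :=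
  ![3, 35]

def sgK : Fin 2 → Fin 126 :=
  ![5, 48]

def sgB : Fin 2 → Bool :=
  ![false, true]

def sgM : Fin 2 → M3 :=
  ![!![⟨1, 0⟩, ⟨2, 2⟩, ⟨4, 4⟩; ⟨2, 3⟩, ⟨2, 0⟩, ⟨1, 0⟩; ⟨4, 1⟩, ⟨1, 0⟩, ⟨1, 0⟩], !![⟨1, 0⟩, ⟨2, 4⟩, ⟨4, 3⟩; ⟨1, 3⟩, ⟨3, 1⟩, ⟨2, 2⟩; ⟨2, 1⟩, ⟨0, 2⟩, ⟨2, 4⟩]]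

def stM : Fin 20 → M3 :=
  ![!![⟨1, 0⟩, ⟨0, 0⟩, ⟨0, 0⟩; ⟨0, 0⟩, ⟨1, 0⟩, ⟨0, 0⟩; ⟨0, 0⟩, ⟨0, 0⟩, ⟨1, 0⟩],
    !![⟨1, 0⟩, ⟨2, 2⟩, ⟨4, 4⟩; ⟨2, 3⟩, ⟨2, 0⟩, ⟨1, 0⟩; ⟨4, 1⟩, ⟨1, 0⟩, ⟨1, 0⟩],
    !![⟨1, 0⟩, ⟨2, 4⟩, ⟨4, 3⟩; ⟨1, 3⟩, ⟨3, 1⟩, ⟨2, 2⟩; ⟨2, 1⟩, ⟨0, 2⟩, ⟨2, 4⟩],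
    !![⟨1, 0⟩, ⟨3, 0⟩, ⟨1, 0⟩; ⟨1, 0⟩, ⟨4, 3⟩, ⟨2, 1⟩; ⟨2, 0⟩, ⟨4, 1⟩, ⟨1, 2⟩],
    !![⟨1, 0⟩, ⟨0, 3⟩, ⟨0, 1⟩; ⟨0, 4⟩, ⟨2, 2⟩, ⟨3, 4⟩; ⟨0, 3⟩, ⟨0, 4⟩, ⟨3, 3⟩],
    !![⟨1, 0⟩, ⟨3, 1⟩, ⟨1, 2⟩; ⟨3, 4⟩, ⟨0, 0⟩, ⟨2, 0⟩; ⟨1, 3⟩, ⟨2, 0⟩, ⟨3, 0⟩],
    !![⟨1, 0⟩, ⟨4, 2⟩, ⟨3, 4⟩; ⟨2, 4⟩, ⟨2, 4⟩, ⟨0, 3⟩; ⟨4, 3⟩, ⟨3, 3⟩, ⟨3, 1⟩],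
    !![⟨1, 0⟩, ⟨1, 4⟩, ⟨2, 3⟩; ⟨4, 4⟩, ⟨4, 1⟩, ⟨1, 2⟩; ⟨3, 3⟩, ⟨1, 2⟩, ⟨3, 4⟩],
    !![⟨1, 0⟩, ⟨2, 3⟩, ⟨4, 1⟩; ⟨3, 3⟩, ⟨3, 2⟩, ⟨4, 4⟩; ⟨1, 1⟩, ⟨4, 4⟩, ⟨4, 3⟩],
    !![⟨1, 0⟩, ⟨4, 1⟩, ⟨3, 2⟩; ⟨1, 1⟩, ⟨4, 4⟩, ⟨1, 3⟩; ⟨2, 2⟩, ⟨1, 3⟩, ⟨3, 1⟩],
    !![⟨1, 0⟩, ⟨1, 2⟩, ⟨2, 4⟩; ⟨2, 1⟩, ⟨3, 4⟩, ⟨0, 3⟩; ⟨4, 2⟩, ⟨2, 3⟩, ⟨2, 1⟩],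
    !![⟨1, 0⟩, ⟨4, 0⟩, ⟨3, 0⟩; ⟨4, 0⟩, ⟨2, 0⟩, ⟨1, 0⟩; ⟨3, 0⟩, ⟨1, 0⟩, ⟨1, 0⟩],
    !![⟨1, 0⟩, ⟨1, 3⟩, ⟨2, 1⟩; ⟨1, 2⟩, ⟨3, 0⟩, ⟨3, 0⟩; ⟨2, 4⟩, ⟨3, 0⟩, ⟨0, 0⟩],
    !![⟨1, 0⟩, ⟨0, 1⟩, ⟨0, 2⟩; ⟨0, 2⟩, ⟨2, 3⟩, ⟨0, 1⟩; ⟨0, 4⟩, ⟨3, 1⟩, ⟨3, 2⟩],
    !![⟨1, 0⟩, ⟨0, 4⟩, ⟨0, 3⟩; ⟨0, 1⟩, ⟨3, 0⟩, ⟨3, 0⟩; ⟨0, 2⟩, ⟨3, 0⟩, ⟨0, 0⟩],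
    !![⟨1, 0⟩, ⟨3, 3⟩, ⟨1, 1⟩; ⟨4, 1⟩, ⟨4, 0⟩, ⟨4, 0⟩; ⟨3, 2⟩, ⟨2, 0⟩, ⟨1, 0⟩],
    !![⟨1, 0⟩, ⟨1, 0⟩, ⟨2, 0⟩; ⟨3, 0⟩, ⟨4, 2⟩, ⟨4, 4⟩; ⟨1, 0⟩, ⟨2, 4⟩, ⟨1, 3⟩],
    !![⟨1, 0⟩, ⟨3, 2⟩, ⟨1, 4⟩; ⟨2, 2⟩, ⟨3, 3⟩, ⟨4, 1⟩; ⟨4, 4⟩, ⟨4, 1⟩, ⟨4, 2⟩],
    !![⟨1, 0⟩, ⟨4, 4⟩, ⟨3, 3⟩; ⟨3, 2⟩, ⟨4, 0⟩, ⟨2, 0⟩; ⟨1, 4⟩, ⟨4, 0⟩, ⟨1, 0⟩],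
    !![⟨1, 0⟩, ⟨2, 1⟩, ⟨4, 2⟩; ⟨4, 3⟩, ⟨2, 1⟩, ⟨3, 2⟩; ⟨3, 1⟩, ⟨0, 2⟩, ⟨3, 4⟩]]

def stP : Fin 20 → Fin 20 :=
  ![0, 0, 0, 1, 2, 2, 3, 3, 4, 5, 5, 6, 7, 7, 8, 8, 10, 11, 11, 13]

def stG : Fin 20 → Fin 2 :=
  ![0, 0, 1, 1, 0, 1, 0, 1, 1, 0, 1, 1, 0, 1, 0, 1, 0, 0, 1, 0]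

end Cfsg.Agent.MinIndexU35
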